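import Cfsg.Agent.Lib.Components.LBalanceTwo
import Cfsg.Agent.Lib.Components.Covering

/-!
# Elementary lemmas for 2-components of involution centralizers

* involutions congruent modulo a subgroup of odd order, centralizing lifts;
* `lift_component`: a component of `C(π a)` is covered by a 2-component of `C(a)`;
* `trivial_of_small`: small homomorphic images of such a 2-component are trivial.
-/

set_option autoImplicit false
set_option linter.style.haveILetI false

namespace CfsgLib.Intrinsic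

open Subgroup
open CfsgLib.Signalizer CfsgLib.Components

variable {Γ : Type*} [Group Γ]

theorem orderOf_odd_of_mem {O : Subgroup Γ} (hO : Odd (Nat.card O)) {x : Γ} (hx : x ∈ O) :
    Odd (orderOf x) :=
  hO.of_dvd_nat (O.orderOf_dvd_natCard hx)

theorem eq_one_of_two_pow {x : Γ} {k : ℕ} (hk : x ^ 2 ^ k = 1) (hx : Odd (orderOf x)) : x = 1 :=
  orderOf_eq_one_iff.mp (Nat.eq_one_of_dvd_coprimes
    ((Nat.coprime_two_right.mpr hx).pow_right k) dvd_rfl (orderOf_dvd_of_pow_eq_one hk))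

theorem pow_odd_of_sq {x : Γ} (hx : x ^ 2 = 1) {m : ℕ} (hm : Odd m) : x ^ m = x := by
  obtain ⟨r, rfl⟩ := hm
  rw [pow_succ, pow_mul, hx, one_pow, one_mul]

theorem inv_eq_self_of_sq {x : Γ} (hx : x ^ 2 = 1) : x⁻¹ = x :=
  inv_eq_of_mul_eq_one_right (by rwa [pow_two] at hx)

theorem exists_two_part [Finite Γ] (u : Γ) : ∃ m : ℕ, Odd m ∧ ∃ k : ℕ, (u ^ m) ^ 2 ^ k = 1 := by
  haveI : Fact (Nat.Prime 2) := ⟨Nat.prime_two⟩
  obtain ⟨m, hm, h⟩ := Signalizer.exists_coprime_pow (p := 2) u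
  exact ⟨m, Nat.coprime_two_right.mp hm, h⟩

/-- A nontrivial 2-element has a power which is an involution. -/
theorem exists_involution_pow {x : Γ} {k : ℕ} (hk : x ^ 2 ^ k = 1) (hx : x ≠ 1) :
    ∃ i : ℕ, (x ^ 2 ^ i) ^ 2 = 1 ∧ x ^ 2 ^ i ≠ 1 := by
  induction k with
  | zero => exact absurd (by simpa using hk) hx
  | succ k ih =>
    by_cases h : x ^ 2 ^ k = 1
    · exact ih h
    · exact ⟨k, by rwa [← pow_mul, ← pow_succ], h⟩

/-- Two involutions with product of odd order are conjugate by a power of the product. -/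
theorem exists_pow_conj {u v : Γ} (hu : u ^ 2 = 1) (hv : v ^ 2 = 1) (hodd : Odd (orderOf (u * v))) :
    ∃ k : ℕ, ((u * v) ^ k)⁻¹ * u * (u * v) ^ k = v := by
  obtain ⟨r, hr⟩ := hodd
  refine ⟨r + 1, ?_⟩
  set ρ := u * v with hρ
  have hui := inv_eq_self_of_sq hu
  have hinv : u * ρ * u⁻¹ = ρ⁻¹ := by
    rw [hρ, mul_inv_rev, inv_eq_self_of_sq hv, hui]
    rw [show u * (u * v) * u = u ^ 2 * (v * u) by rw [pow_two]; group, hu, one_mul]
  have h1 : (ρ ^ (r + 1))⁻¹ = u * ρ ^ (r + 1) * u⁻¹ := by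
    rw [← conj_pow, hinv, inv_pow]
  rw [h1, show u * ρ ^ (r + 1) * u⁻¹ * u * ρ ^ (r + 1) = u * ρ ^ (r + 1 + (r + 1)) by
    rw [pow_add]; group, show r + 1 + (r + 1) = orderOf ρ + 1 by omega, pow_succ, pow_orderOf_eq_one,
    one_mul, hρ, show u * (u * v) = u ^ 2 * v by rw [pow_two]; group, hu, one_mul]

/-- Two involutions commuting modulo odd order: a conjugate of the second commutes with the first. -/
theorem exists_pow_commute {u v : Γ} (hu : u ^ 2 = 1) (hv : v ^ 2 = 1)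
    (hodd : Odd (orderOf ((u * v) ^ 2))) :
    ∃ k : ℕ, u * ((((u * v) ^ 2) ^ k)⁻¹ * v * ((u * v) ^ 2) ^ k) =
      ((((u * v) ^ 2) ^ k)⁻¹ * v * ((u * v) ^ 2) ^ k) * u := by
  obtain ⟨r, hr⟩ := hodd
  set ρ := u * v with hρ
  set m := orderOf (ρ ^ 2) with hm
  have hui := inv_eq_self_of_sq hu
  have hvi := inv_eq_self_of_sq hv
  have hinv : v * ρ * v⁻¹ = ρ⁻¹ := by
    rw [hρ, mul_inv_rev, hui, hvi, show v * (u * v) * v = v * u * v ^ 2 by rw [pow_two]; group, hv,
      mul_one]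
  -- `4 * k + 1` is a multiple of the order of `ρ ^ 2`
  obtain ⟨k, j, hkj⟩ : ∃ k j : ℕ, 4 * k + 1 = m * j := by
    rcases Nat.even_or_odd r with ⟨s, hs⟩ | ⟨s, hs⟩
    · exact ⟨s, 1, by omega⟩
    · exact ⟨3 * s + 2, 3, by omega⟩
  refine ⟨k, ?_⟩
  have h1 : ((ρ ^ 2) ^ k)⁻¹ * v * (ρ ^ 2) ^ k = v * (ρ ^ 2) ^ (k + k) := by
    have : v * (ρ ^ 2) ^ k * v⁻¹ = ((ρ ^ 2) ^ k)⁻¹ := by
      rw [← conj_pow, ← conj_pow, hinv, inv_pow, inv_pow]
    rw [← this, pow_add]
    group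
  rw [h1]
  have h2 : u * (v * (ρ ^ 2) ^ (k + k)) = ρ ^ (4 * k + 1) := by
    rw [← mul_assoc, ← hρ, ← pow_mul, ← pow_succ']
    congr 1
    omega
  have h3 : (ρ ^ (4 * k + 1)) ^ 2 = 1 := by
    rw [← pow_mul, mul_comm, pow_mul, hkj, pow_mul, hm, pow_orderOf_eq_one, one_pow]
  rw [h2]
  set w := v * (ρ ^ 2) ^ (k + k) with hw
  have hw2 : w ^ 2 = 1 := by
    rw [← h1, show ((ρ ^ 2) ^ k)⁻¹ * v * (ρ ^ 2) ^ k =
      ((ρ ^ 2) ^ k)⁻¹ * v * (((ρ ^ 2) ^ k)⁻¹)⁻¹ by rw [inv_inv], conj_pow, hv, mul_one,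
      mul_inv_cancel]
  calc ρ ^ (4 * k + 1) = (ρ ^ (4 * k + 1))⁻¹ := (inv_eq_self_of_sq h3).symm
    _ = (u * w)⁻¹ := by rw [h2]
    _ = w * u := by rw [mul_inv_rev, hui, inv_eq_self_of_sq hw2]

variable [Finite Γ]

theorem core_odd : Odd (Nat.card (Cfsg.pPrimeCore 2 Γ)) :=
  Nat.coprime_two_right.mp (pPrimeCore_coprime 2)

theorem orderOf_odd_of_proj_eq_one {x : Γ} (h : modCore 2 Γ x = 1) : Odd (orderOf x) :=
  orderOf_odd_of_mem core_odd ((QuotientGroup.eq_one_iff x).mp h)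

theorem eq_one_of_proj {x : Γ} {k : ℕ} (hk : x ^ 2 ^ k = 1) (h : modCore 2 Γ x = 1) : x = 1 :=
  eq_one_of_two_pow hk (orderOf_odd_of_proj_eq_one h)

theorem eq_of_proj_commute {x y : Γ} {k l : ℕ} (hk : x ^ 2 ^ k = 1) (hl : y ^ 2 ^ l = 1)
    (hc : Commute x y) (h : modCore 2 Γ x = modCore 2 Γ y) : x = y := by
  refine mul_inv_eq_one.mp (eq_one_of_proj (k := k + l) ?_ ?_)
  · rw [hc.inv_right.mul_pow]
    have h1 : x ^ 2 ^ (k + l) = 1 := by rw [pow_add, pow_mul, hk, one_pow]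
    have h2 : y ^ 2 ^ (k + l) = 1 := by rw [pow_add, mul_comm, pow_mul, hl, one_pow]
    rw [h1, inv_pow, h2, inv_one, mul_one]
  · rw [map_mul, map_inv, h, mul_inv_cancel]

/-- An involution is conjugate to a congruent involution by an element of the core commuting with
whatever commutes with both. -/
theorem exists_core_conj {u v : Γ} (hu : u ^ 2 = 1) (hv : v ^ 2 = 1)
    (h : modCore 2 Γ u = modCore 2 Γ v) :
    ∃ o : Γ, modCore 2 Γ o = 1 ∧ o⁻¹ * u * o = v ∧ ∀ d, Commute d u → Commute d v → Commute d o := by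
  have h0 : modCore 2 Γ (u * v) = 1 := by
    rw [map_mul, ← h, ← map_mul, ← pow_two, hu, map_one]
  obtain ⟨k, hk⟩ := exists_pow_conj hu hv (orderOf_odd_of_proj_eq_one h0)
  exact ⟨(u * v) ^ k, by rw [map_pow, h0, one_pow], hk, fun d h1 h2 => (h1.mul_right h2).pow_right k⟩

/-- Elements commuting with an involution modulo the core lift to elements commuting with it. -/
theorem exists_centralizing_lift {d : Γ} (hd : d ^ 2 = 1) {q : Γ ⧸ Cfsg.pPrimeCore 2 Γ}
    (hq : Commute q (modCore 2 Γ d)) : ∃ x : Γ, modCore 2 Γ x = q ∧ Commute x d := by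
  obtain ⟨x₀, rfl⟩ := modCore_surjective q
  have h1 : (x₀⁻¹ * d * x₀) ^ 2 = 1 := by
    rw [pow_two, show x₀⁻¹ * d * x₀ * (x₀⁻¹ * d * x₀) = x₀⁻¹ * d ^ 2 * x₀ by rw [pow_two]; group, hd]
    group
  have h2 : modCore 2 Γ (x₀⁻¹ * d * x₀) = modCore 2 Γ d := by
    rw [map_mul, map_mul, map_inv, mul_assoc, ← hq.eq, inv_mul_cancel_left]
  obtain ⟨o, ho, hoc, -⟩ := exists_core_conj h1 hd h2
  refine ⟨x₀ * o, by rw [map_mul, ho, mul_one], ?_⟩
  calc x₀ * o * d = x₀ * o * (o⁻¹ * (x₀⁻¹ * d * x₀) * o) := by rw [hoc]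
    _ = d * (x₀ * o) := by group

/-- 2-elements of the quotient by the core lift to 2-elements. -/
theorem exists_two_lift {u : Γ} {k : ℕ} (hk : (modCore 2 Γ u) ^ 2 ^ k = 1) :
    ∃ u' : Γ, u' ∈ zpowers u ∧ (∃ l : ℕ, u' ^ 2 ^ l = 1) ∧ modCore 2 Γ u' = modCore 2 Γ u := by
  obtain ⟨m, hm, l, hl⟩ := exists_two_part u
  obtain ⟨j, hj⟩ := exists_pow_eq_self_of_coprime (x := modCore 2 Γ u) (n := m)
    (((Nat.coprime_two_right.mpr hm).pow_right k).coprime_dvd_right (orderOf_dvd_of_pow_eq_one hk))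
  refine ⟨(u ^ m) ^ j, pow_mem (pow_mem (mem_zpowers u) m) j, ⟨l, ?_⟩, by rw [map_pow, map_pow, hj]⟩
  rw [← pow_mul, mul_comm, pow_mul, hl, one_pow]

/-- A perfect quasisimple subgroup of even order is generated by its 2-elements. -/
theorem pGen_two_quasisimple {Q : Type*} [Group Q] [Finite Q] {D : Subgroup Q}
    (hD : Cfsg.IsQuasisimple D) (hev : 2 ∣ Nat.card D) : pGen 2 D = D := by
  haveI : Fact (Nat.Prime 2) := ⟨Nat.prime_two⟩
  have hn : ((pGen 2 D).subgroupOf D).Normal :=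
    (Subgroup.normal_subgroupOf_iff_le_normalizer (pGen_le D)).mpr
      (Subgroup.le_normalizer.trans (normalizer_le_normalizer_pGen D))
  have h := quasisimple_normal_eq_top_of_pElements hD hev hn fun x k hk =>
    mem_subgroupOf.mpr (mem_pGen x.2 (k := k) (congrArg Subtype.val hk))
  exact le_antisymm (pGen_le D) (Subgroup.subgroupOf_eq_top.mp h)

/-- A component of `C(π a)` is covered by a 2-component of `C(a)`. -/
theorem lift_component {a : Γ} (ha : a ^ 2 = 1) {D : Subgroup (Γ ⧸ Cfsg.pPrimeCore 2 Γ)}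
    (hq : Cfsg.IsQuasisimple D) (hev : 2 ∣ Nat.card D)
    (hDC : D ≤ centralizer ({modCore 2 Γ a} : Set _))
    (hsn : (D.subgroupOf (centralizer ({modCore 2 Γ a} : Set _))).IsSubnormal) :
    ∃ M : Subgroup Γ, Cfsg.IsPComponentOf 2 M (centralizer ({a} : Set Γ)) ∧
      M.map (modCore 2 Γ) = D ∧
      ∀ u ∈ centralizer ({a} : Set Γ), (∃ k : ℕ, u ^ 2 ^ k = 1) → modCore 2 Γ u ∈ D → u ∈ M := by
  haveI : Fact (Nat.Prime 2) := ⟨Nat.prime_two⟩
  set π := modCore 2 Γ with hπ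
  set C := centralizer ({a} : Set Γ) with hC
  set W := D.comap π ⊓ C with hW
  set M := pGen 2 W with hM
  have hWmap : W.map π = D := by
    refine le_antisymm (map_le_iff_le_comap.mpr inf_le_left) fun q hqD => ?_
    obtain ⟨x, hx, hxa⟩ := exists_centralizing_lift ha (q := q)
      (Subgroup.mem_centralizer_singleton_iff.mp (hDC hqD))
    exact ⟨x, ⟨show π x ∈ D by rw [hx]; exact hqD, Subgroup.mem_centralizer_singleton_iff.mpr hxa.eq⟩, hx⟩
  have hWsn : (W.subgroupOf C).IsSubnormal := by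
    let f : C →* centralizer ({π a} : Set _) := (π.comp C.subtype).codRestrict _ fun z =>
      Subgroup.mem_centralizer_singleton_iff.mpr (by
        show π (z : Γ) * π a = π a * π (z : Γ)
        rw [← map_mul, ← map_mul, Subgroup.mem_centralizer_singleton_iff.mp z.2])
    have h := hsn.comap f
    convert h using 1
    ext z
    exact ⟨fun h => h.1, fun h => ⟨h, z.2⟩⟩
  have hMmap : M.map π = D := by rw [hM, map_pGen, hWmap, pGen_two_quasisimple hq hev]
  have hgen : pGen 2 M = M := le_antisymm (pGen_le M)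
    (pGen_le_iff.mpr fun x hx k hk => mem_pGen (mem_pGen hx hk) hk)
  refine ⟨M, isPComponentOf_iff.mpr ⟨(pGen_le W).trans inf_le_right, ?_, hgen, ?_⟩, hMmap,
    fun u hu ⟨k, hk⟩ huD => mem_pGen ⟨huD, hu⟩ hk⟩
  · exact subnormal_subgroupOf_trans (pGen_le W) inf_le_right
      ((Subgroup.normal_subgroupOf_iff_le_normalizer (pGen_le W)).mpr
        (Subgroup.le_normalizer.trans (normalizer_le_normalizer_pGen W))).isSubnormal hWsn
  · set g : M →* D := (π.comp M.subtype).codRestrict D fun x => hMmap.le ⟨x, x.2, rfl⟩ with hg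
    have hgs : Function.Surjective g := fun ⟨q, hqD⟩ => by
      obtain ⟨x, hx, rfl⟩ := hMmap.ge hqD
      exact ⟨⟨x, hx⟩, rfl⟩
    have hker : (Nat.card g.ker).Coprime 2 := by
      refine (pPrimeCore_coprime (G := Γ) 2).coprime_dvd_left ?_
      rw [← Subgroup.card_map_of_injective (f := M.subtype) M.subtype_injective]
      refine Subgroup.card_dvd_of_le ?_
      rintro _ ⟨z, hz, rfl⟩
      exact (QuotientGroup.eq_one_iff _).mp (congrArg Subtype.val hz)
    obtain ⟨e⟩ := nonempty_quotient_core_equiv (p := 2) g hgs hker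
    haveI := pPrimeCore_normal (G := D) 2
    haveI : Nontrivial (↥D ⧸ Cfsg.pPrimeCore 2 D) := by
      by_contra hs
      rw [not_nontrivial_iff_subsingleton] at hs
      have htop : Cfsg.pPrimeCore 2 D = ⊤ :=
        eq_top_iff.mpr fun z _ => (QuotientGroup.eq_one_iff z).mp (Subsingleton.elim _ _)
      have h1 := pPrimeCore_coprime (G := D) 2
      rw [htop, Subgroup.card_top] at h1
      exact Nat.prime_two.coprime_iff_not_dvd.mp h1.symm hev
    exact IsQuasisimple.congr e.symm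
      (IsQuasisimple.of_surjective hq (QuotientGroup.mk' _) (QuotientGroup.mk'_surjective _))

/-- Small homomorphic images of a 2-component covering a quasisimple group are trivial. -/
theorem trivial_of_small {D : Subgroup (Γ ⧸ Cfsg.pPrimeCore 2 Γ)} (hq : Cfsg.IsQuasisimple D)
    {M : Subgroup Γ} (hMmap : M.map (modCore 2 Γ) = D) (hgen : pGen 2 M = M)
    {I : Type*} [Group I] [Finite I] (φ : M →* I)
    (hsmall : Nat.card φ.range < Nat.card (↥D ⧸ Subgroup.center D)) : φ.ker = ⊤ := by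
  haveI : Fact (Nat.Prime 2) := ⟨Nat.prime_two⟩
  set π := modCore 2 Γ
  set g : M →* D := (π.comp M.subtype).codRestrict D fun x => hMmap.le ⟨x, x.2, rfl⟩ with hg
  have hgs : Function.Surjective g := fun ⟨q, hqD⟩ => by
    obtain ⟨x, hx, rfl⟩ := hMmap.ge hqD
    exact ⟨⟨x, hx⟩, rfl⟩
  set N := φ.ker
  rcases IsQuasisimple.normal_le_center_or_eq_top hq (φ.normal_ker.map g hgs) with hc | ht
  · exfalso
    have h1 : Nat.card (↥D ⧸ Subgroup.center D) ∣ N.index := by
      rw [← Subgroup.index_eq_card]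
      exact (Subgroup.index_dvd_of_le hc).trans (Subgroup.index_map_dvd N hgs)
    have h2 : N.index = Nat.card φ.range := Subgroup.index_ker φ
    rw [h2] at h1
    exact (Nat.le_of_dvd Nat.card_pos h1).not_gt hsmall
  · refine eq_top_iff.mpr fun x _ => ?_
    have hle : pGen 2 (⊤ : Subgroup M) ≤ N := pGen_le_iff.mpr fun y _ k hk => by
      obtain ⟨n, hn, hny⟩ := ht.ge (Subgroup.mem_top (g y))
      have h1 : g (n⁻¹ * y) = 1 := by rw [map_mul, map_inv, hny, inv_mul_cancel]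
      have h2 : Odd (orderOf (n⁻¹ * y)) := by
        rw [← Subgroup.orderOf_coe]
        exact orderOf_odd_of_proj_eq_one (congrArg Subtype.val h1)
      have h3 : φ (n⁻¹ * y) = φ y := by
        rw [map_mul, map_inv, show φ n = 1 from hn, inv_one, one_mul]
      rw [MonoidHom.mem_ker]
      refine eq_one_of_two_pow (k := k) (by rw [← map_pow, hk, map_one]) ?_
      exact h2.of_dvd_nat (h3 ▸ orderOf_map_dvd φ _)
    have htop : pGen 2 (⊤ : Subgroup M) = ⊤ := by
      refine Subgroup.map_injective M.subtype_injective ?_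
      rw [map_pGen, ← MonoidHom.range_eq_map, Subgroup.range_subtype, hgen]
    exact hle (htop.ge (Subgroup.mem_top x))

end CfsgLib.Intrinsic
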