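import Cfsg.Agent.Lib.Intrinsic.Pair

/-!
# If `b ∈ N(K)` then `a ∈ N(J)` (intrinsic components `J` of `C(b)`, `K` of `C(a)`)
-/

set_option autoImplicit false
set_option linter.style.haveILetI false
set_option maxHeartbeats 800000

namespace CfsgLib.Intrinsic

open Subgroup
open CfsgLib.Signalizer CfsgLib.Components

variable {G : Type*} [Group G] [Finite G]

theorem normalizes_of_normalizes {n : ℕ} {a b : G} {J K : Subgroup G}
    (hJ : Intrinsic n b J) (hK : Intrinsic n a K) (hbK : b ∈ normalizer (K : Set G)) :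
    a ∈ normalizer (J : Set G) := by
  haveI : Fact (Nat.Prime 2) := ⟨Nat.prime_two⟩
  by_contra haJ
  have hba : b * a = a * b := hK.conj_eq hbK
  have hab : a * b = b * a := hba.symm
  have haab : a ^ 2 = 1 := hK.sq
  set JB := (J.subgroupOf (cent b)).map (proj b) with hJB
  set KA := (K.subgroupOf (cent a)).map (proj a) with hKA
  set zb := proj b (el (rfl : b * b = b * b)) with hzb
  set za := proj a (el (rfl : a * a = a * a)) with hza
  set ab' := proj b (el hab) with hab'
  set σ := proj a (el hba) with hσdef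
  have hab'2 : ab' ^ 2 = 1 := by
    rw [hab', ← map_pow, show (el hab) ^ 2 = 1 from Subtype.ext haab, map_one]
  have hab'i := inv_eq_self_of_sq hab'2
  have hσ2 : σ ^ 2 = 1 := by
    rw [hσdef, ← map_pow, show (el hba) ^ 2 = 1 from Subtype.ext hJ.sq, map_one]
  have hσi := inv_eq_self_of_sq hσ2
  have hanot : ab' ∉ normalizer (JB : Set _) := fun e => haJ ((hJ.mem_normalizer_iff _).mpr e)
  have hσN : σ ∈ normalizer (KA : Set _) := (hK.mem_normalizer_iff _).mp hbK
  obtain ⟨D, hDq, hDev, hDC, hDsn, hDL, hDn, hDmem⟩ := hJ.good.diag_spec hab'2 hanot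
  obtain ⟨M, hM, hMmap, hMmem⟩ :=
    lift_component (a := el hab) (Subtype.ext haab) hDq hDev hDC hDsn
  obtain ⟨x₀, hx₀, hx₀z⟩ := hJ.good.exists_four
  set x₀' := ab' * x₀ * ab'⁻¹ with hx₀'
  set dq := x₀ * x₀' with hdq
  have hdD : dq ∈ D := hDmem x₀ hx₀
  have hcx : x₀' * x₀ = x₀ * x₀' := comm_conj hJ.good.comp hanot hx₀ hx₀
  have hdq2 : dq ^ 2 = 1 := by
    rw [hdq, (show Commute x₀ x₀' from hcx.symm).mul_pow, hx₀', conj_pow, hx₀z,
      ← hJ.z_central ab', mul_inv_cancel_right, ← pow_two]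
    exact hJ.good.sq
  -- an involution of the diagonal component, read in `G`
  obtain ⟨u, hu, hudq⟩ := hMmap.ge hdD
  obtain ⟨d, hdu, ⟨l, hl⟩, hdproj⟩ := exists_two_lift (u := u) (k := 1) (by
    show (proj b u) ^ 2 ^ 1 = 1
    rw [show proj b u = dq from hudq, pow_one, hdq2])
  have hdM : d ∈ M := zpowers_le.mpr hu hdu
  have hdq' : proj b d = dq := hdproj.trans hudq
  have hd2 : d ^ 2 = 1 := by
    refine eq_one_of_proj (k := l) (by rw [← pow_mul, mul_comm, pow_mul, hl, one_pow]) ?_
    show proj b (d ^ 2) = 1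
    rw [map_pow, hdq', hdq2]
  obtain ⟨hda, hdL⟩ := balance haab hJ.sq hab hM hdM
  have hdb : (d : G) * b = b * d := comm_of_mem d
  have hdK : (d : G) ∈ normalizer (K : Set G) := hK.mem_normalizer_of_pLayer hdL
  by_cases htriv : ∀ c ∈ KA, σ * c * σ⁻¹ = c
  · -- an element of order four of `K` centralizing `b`
    obtain ⟨x, hx, hxz⟩ := hK.good.exists_four
    obtain ⟨y₀, hy₀, hy₀b⟩ := exists_centralizing_lift (d := el hba) (q := x)
      (Subtype.ext hJ.sq) (mul_inv_eq_iff_eq_mul.mp (htriv x hx)).symm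
    have hx4 : x ^ 2 ^ 2 = 1 := by rw [pow_two 2, pow_mul, hxz]; exact hK.good.sq
    obtain ⟨y, hyu, ⟨k, hk⟩, hyproj⟩ := exists_two_lift (u := y₀) (k := 2) (by
      show (proj a y₀) ^ 2 ^ 2 = 1
      rw [show proj a y₀ = x from hy₀, hx4])
    have hyx : proj a y = x := hyproj.trans hy₀
    have hyb' : Commute y (el hba) := by
      obtain ⟨i, rfl⟩ := mem_zpowers_iff.mp hyu
      exact hy₀b.zpow_left i
    have hyb : (y : G) * b = b * y := congrArg Subtype.val hyb'.eq
    have hyK : (y : G) ∈ K := hK.mem_of_proj ⟨k, hk⟩ (by rw [hyx]; exact hx)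
    have hysq : y ^ 2 = el (rfl : a * a = a * a) := by
      refine eq_of_proj_commute (k := k) (l := 1) (by rw [← pow_mul, mul_comm, pow_mul, hk, one_pow])
        (Subtype.ext (by show a ^ 2 ^ 1 = 1; rw [pow_one, haab]))
        (Subtype.ext (comm_of_mem (y ^ 2))) ?_
      show proj a (y ^ 2) = _
      rw [map_pow, hyx, hxz]
    have hya : (y : G) ^ 2 = a := congrArg Subtype.val hysq
    set yq := proj b (el hyb) with hyq
    have hyq2 : yq ^ 2 = ab' := by
      rw [hyq, ← map_pow]
      exact congrArg _ (Subtype.ext hya)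
    have hyai : Commute yq ab' := by rw [← hyq2]; exact (Commute.refl yq).pow_right 2
    have hyN : yq ∉ normalizer (JB : Set _) := fun e => hanot (hyq2 ▸ pow_mem e 2)
    have hyiN : yq⁻¹ ∉ normalizer (JB : Set _) := fun e => hyN (by simpa using inv_mem e)
    have hyaN : yq⁻¹ * ab' ∉ normalizer (JB : Set _) := by
      intro e
      refine hanot ?_
      have h1 := pow_mem e 2
      rw [hyai.inv_left.mul_pow, hab'2, mul_one, inv_pow, hyq2, hab'i] at h1
      exact h1
    have hyaN' : ab'⁻¹ * yq⁻¹ ∉ normalizer (JB : Set _) := by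
      rw [hab'i, ← hyai.inv_left.eq]; exact hyaN
    set dq' := yq⁻¹ * dq * yq with hdq''
    have hp : ∀ c ∈ JB, yq⁻¹ * x₀ * yq * c = c * (yq⁻¹ * x₀ * yq) := fun c hc => by
      simpa using comm_conj hJ.good.comp hyiN hx₀ hc
    have hq : ∀ c ∈ JB, yq⁻¹ * x₀' * yq * c = c * (yq⁻¹ * x₀' * yq) := fun c hc => by
      have := comm_conj hJ.good.comp hyaN hx₀ hc
      rw [show yq⁻¹ * ab' * x₀ * (yq⁻¹ * ab')⁻¹ = yq⁻¹ * x₀' * yq by rw [hx₀']; group] at this
      exact this
    have hsplit : dq' = yq⁻¹ * x₀ * yq * (yq⁻¹ * x₀' * yq) := by rw [hdq'', hdq]; group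
    have hJd : ∀ c ∈ JB, Commute dq' c := fun c hc => by
      rw [hsplit]
      exact (show Commute _ c from hp c hc).mul_left (hq c hc)
    have hdd : Commute dq dq' := by
      rw [hdq]
      refine (hJd x₀ hx₀).symm.mul_left ?_
      have hp' : ∀ g : cent b ⧸ Cfsg.pPrimeCore 2 (cent b), g ∉ normalizer (JB : Set _) →
          Commute (g * x₀ * g⁻¹) x₀ := fun g hg => comm_conj hJ.good.comp hg hx₀ hx₀
      rw [hsplit, hx₀']
      have conjc : ∀ g : cent b ⧸ Cfsg.pPrimeCore 2 (cent b), ab'⁻¹ * g ∉ normalizer (JB : Set _) →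
          Commute (ab' * x₀ * ab'⁻¹) (g * x₀ * g⁻¹) := fun g hg => by
        have h1 := (hp' _ hg).symm.map (MulAut.conj ab').toMonoidHom
        have e : (MulAut.conj ab').toMonoidHom (ab'⁻¹ * g * x₀ * (ab'⁻¹ * g)⁻¹) = g * x₀ * g⁻¹ := by
          show ab' * (ab'⁻¹ * g * x₀ * (ab'⁻¹ * g)⁻¹) * ab'⁻¹ = g * x₀ * g⁻¹
          group
        rw [e] at h1
        exact h1
      refine Commute.mul_right ?_ ?_
      · have := conjc yq⁻¹ hyaN'
        simpa using this
      · have := conjc (yq⁻¹ * ab') (by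
          rw [show ab'⁻¹ * (yq⁻¹ * ab') = yq⁻¹ by rw [hyai.inv_left.eq]; group]; exact hyiN)
        rw [show yq⁻¹ * ab' * x₀ * (yq⁻¹ * ab')⁻¹ = yq⁻¹ * (ab' * x₀ * ab'⁻¹) * yq by group] at this
        exact this
    -- the commutator `[d, y]`
    set w : cent b := d⁻¹ * (el hyb)⁻¹ * d * el hyb with hw
    have hwK : (w : G) ∈ K := by
      show (d : G)⁻¹ * (y : G)⁻¹ * d * y ∈ K
      refine mul_mem ?_ hyK
      simpa using (Subgroup.mem_normalizer_iff.mp (inv_mem hdK) _).mp (inv_mem hyK)
    have hwproj : proj b w = dq * dq' := by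
      rw [hw, map_mul, map_mul, map_mul, map_inv, map_inv, hdq', hdq'', ← hyq,
        inv_eq_self_of_sq hdq2]
      group
    have hdq'2 : dq' ^ 2 = 1 := by
      rw [hdq'']
      have := conj_pow (a := yq⁻¹) (b := dq) (i := 2)
      rw [inv_inv] at this
      rw [this, hdq2, mul_one, inv_mul_cancel]
    have hwsq : (dq * dq') ^ 2 = 1 := by rw [hdd.mul_pow, hdq2, hdq'2, one_mul]
    obtain ⟨w', hw'u, ⟨l', hl'⟩, hw'proj⟩ := exists_two_lift (u := w) (k := 1) (by
      show (proj b w) ^ 2 ^ 1 = 1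
      rw [hwproj, pow_one, hwsq])
    have hw'K : (w' : G) ∈ K := by
      obtain ⟨i, rfl⟩ := mem_zpowers_iff.mp hw'u
      rw [Subgroup.coe_zpow]
      exact zpow_mem hwK i
    have hw'2 : w' ^ 2 = 1 := by
      refine eq_one_of_proj (k := l') (by rw [← pow_mul, mul_comm, pow_mul, hl', one_pow]) ?_
      show proj b (w' ^ 2) = 1
      rw [map_pow, show proj b w' = dq * dq' from hw'proj.trans hwproj, hwsq]
    rcases hK.eq_one_or hw'K (congrArg Subtype.val hw'2) with e | e
    · -- `d` would centralize `J`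
      have h0 : dq * dq' = 1 := by
        rw [← hwproj, ← show proj b w' = proj b w from hw'proj,
          show w' = 1 from Subtype.ext e, map_one]
      have hdd' : dq = dq' := by
        rw [eq_inv_of_mul_eq_one_left h0, inv_eq_self_of_sq hdq'2]
      have hxc : ∀ c ∈ JB, x₀ * c = c * x₀ := by
        intro c hc
        have h1 : dq * c = c * dq := by rw [hdd']; exact (hJd c hc).eq
        have h2 : x₀' * c = c * x₀' := comm_conj hJ.good.comp hanot hx₀ hc
        refine mul_right_cancel (b := x₀') ?_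
        calc x₀ * c * x₀' = x₀ * x₀' * c := by rw [mul_assoc x₀ c x₀', ← h2, ← mul_assoc]
          _ = c * dq := h1
          _ = c * x₀ * x₀' := by rw [hdq, mul_assoc]
      rcases hJ.good.eq_one_or hx₀ hxc with e1 | e1
      · exact hJ.good.ne (by rw [← hx₀z, e1, one_pow])
      · exact hJ.good.ne (by rw [← hx₀z, e1, hJ.good.sq])
    · -- `a` would fix the components
      refine hanot ?_
      have h0 : dq * dq' = ab' := by
        rw [← hwproj, ← show proj b w' = proj b w from hw'proj, show w' = el hab from Subtype.ext e]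
      have hn := hJ.good.layer_le_normalizer
      have hE : (Cfsg.layer (cent b ⧸ Cfsg.pPrimeCore 2 (cent b))).Normal := layer_normal
      have h1 : dq' ∈ Cfsg.layer (cent b ⧸ Cfsg.pPrimeCore 2 (cent b)) := by
        rw [hdq'']; simpa using hE.conj_mem _ (hDL hdD) yq⁻¹
      rw [← h0]
      exact hn (mul_mem (hDL hdD) h1)
  · push Not at htriv
    set φ : M →* cent a ⧸ Cfsg.pPrimeCore 2 (cent a) :=
      (proj a).comp
        { toFun := fun m => el (balance haab hJ.sq hab hM m.2).1
          map_one' := Subtype.ext rfl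
          map_mul' := fun _ _ => Subtype.ext rfl } with hφ
    have hMcent := hK.good.centralizes_of_small hDq hMmap (PCompOf.pGen_eq hM) hDn φ
      (fun m => proj_mem_layer (balance haab hJ.sq hab hM m.2).2) hσN htriv
      (fun m => by
        show proj a _ * proj a _ = proj a _ * proj a _
        rw [← map_mul, ← map_mul]
        exact congrArg _ (Subtype.ext (comm_of_mem (m : cent b))))
    set da := proj a (el hda) with hdadef
    have hdaK : ∀ c ∈ KA, da * c = c * da := fun c hc =>
      mul_inv_eq_iff_eq_mul.mp (hMcent ⟨d, hdM⟩ c hc)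
    have hdG2 : (d : G) ^ 2 = 1 := congrArg Subtype.val hd2
    set X := a * (d : G) with hX
    have hXa : X * a = a * X := by rw [hX, mul_assoc, hda]
    have hX2 : X ^ 2 = 1 := by
      rw [hX, (show Commute a (d : G) from hda.symm).mul_pow, haab, hdG2, one_mul]
    have hXproj : proj a (el hXa) = za * da := by
      rw [hza, hdadef, ← map_mul]
      exact congrArg _ (Subtype.ext rfl)
    -- the element `x` of `C(b) ∩ C(d)` sending `a` to `a d b`
    obtain ⟨x₁, hx₁, hx₁d⟩ := exists_centralizing_lift (d := d) (q := x₀) hd2 (by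
      show Commute x₀ (proj b d)
      rw [hdq', hdq]
      exact (Commute.refl x₀).mul_right hcx.symm)
    have hadb : a * d * b * b = b * (a * d * b) := by
      have h1 : Commute b a := hba
      have h2 : Commute b (d : G) := hdb.symm
      exact ((h1.mul_right h2).mul_right (Commute.refl b)).eq.symm
    set u1 : cent b := el hadb with hu1
    set v1 : cent b := x₁ * el hab * x₁⁻¹ with hv1
    have hu12 : u1 ^ 2 = 1 := Subtype.ext (by
      show (a * d * b) ^ 2 = 1
      have h1 : Commute (a * (d : G)) b := (show Commute a b from hab).mul_left hdb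
      rw [h1.mul_pow, ← hX, hX2, hJ.sq, one_mul])
    have hv12 : v1 ^ 2 = 1 := by
      rw [hv1, conj_pow, show (el hab) ^ 2 = 1 from Subtype.ext haab, mul_one, mul_inv_cancel]
    have hproj1 : proj b u1 = proj b v1 := by
      have e1 : proj b u1 = ab' * dq * zb := by
        rw [hab', ← hdq', hzb, ← map_mul, ← map_mul]
        exact congrArg _ (Subtype.ext rfl)
      rw [e1, hv1, map_mul, map_mul, map_inv, show proj b x₁ = x₀ from hx₁, ← hab']
      have h3 : x₀⁻¹ = x₀ * zb := by
        refine inv_eq_of_mul_eq_one_right ?_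
        rw [← mul_assoc, ← pow_two, hx₀z, ← pow_two]
        exact hJ.good.sq
      rw [h3, hdq, ← hcx, hx₀', hab'i]
      simp only [← mul_assoc]
      rw [← pow_two ab', hab'2, one_mul]
    obtain ⟨o1, -, ho1c, ho1d⟩ := exists_core_conj hu12 hv12 hproj1
    have hdu1 : Commute d u1 := Subtype.ext (by
      show (d : G) * (a * d * b) = a * d * b * d
      exact (((show Commute (d : G) a from hda).mul_right (Commute.refl _)).mul_right hdb).eq)
    have hda' : Commute d (el hab) := Subtype.ext hda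
    have hdv1 : Commute d v1 :=
      ((hx₁d.symm.mul_right hda').mul_right hx₁d.symm.inv_right)
    have hdx : Commute d (o1 * x₁) := (ho1d d hdu1 hdv1).mul_right hx₁d.symm
    have hxconj : (o1 * x₁) * el hab * (o1 * x₁)⁻¹ = u1 := by
      calc o1 * x₁ * el hab * (o1 * x₁)⁻¹ = o1 * v1 * o1⁻¹ := by rw [hv1]; group
        _ = u1 := by rw [← ho1c]; group
    set x : G := ((o1 * x₁ : cent b) : G) with hxdef
    have hxa : x * a * x⁻¹ = a * d * b := congrArg Subtype.val hxconj
    have hxd : x * d * x⁻¹ = (d : G) :=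
      mul_inv_eq_iff_eq_mul.mpr (congrArg Subtype.val hdx.eq).symm
    -- the element `y` of `C(a) ∩ C(d)` sending `b` to `a b`
    obtain ⟨g0, hg0, hg0z⟩ := hK.good.exists_sq hσ2 hσN htriv
    set t := σ * g0⁻¹ * σ * g0 with ht
    have htK : t ∈ KA := by
      have h1 := (Subgroup.mem_normalizer_iff.mp hσN _).mp (inv_mem hg0)
      rw [hσi] at h1
      exact mul_mem h1 hg0
    have htσ : σ * t * σ⁻¹ = t⁻¹ := by
      rw [ht, mul_inv_rev, mul_inv_rev, mul_inv_rev, inv_inv]
      simp only [hσi]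
      rw [show σ * (σ * g0⁻¹ * σ * g0) * σ = σ ^ 2 * (g0⁻¹ * σ * g0 * σ) by rw [pow_two]; group,
        hσ2, one_mul]
      group
    obtain ⟨y₁, hy₁, hy₁d⟩ := exists_centralizing_lift (d := el hda) (q := t)
      (Subtype.ext hdG2) (hdaK t htK).symm
    have habA : a * b * a = a * (a * b) := by
      rw [mul_assoc, hba]
    set u2 : cent a := el habA with hu2
    set v2 : cent a := y₁ * el hba * y₁⁻¹ with hv2
    have hu22 : u2 ^ 2 = 1 := Subtype.ext (by
      show (a * b) ^ 2 = 1
      rw [(show Commute a b from hab).mul_pow, haab, hJ.sq, one_mul])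
    have hv22 : v2 ^ 2 = 1 := by
      rw [hv2, conj_pow, show (el hba) ^ 2 = 1 from Subtype.ext hJ.sq, mul_one, mul_inv_cancel]
    have hproj2 : proj a u2 = proj a v2 := by
      have e1 : proj a u2 = za * σ := by
        rw [hza, hσdef, ← map_mul]
        exact congrArg _ (Subtype.ext rfl)
      rw [e1, hv2, map_mul, map_mul, map_inv, show proj a y₁ = t from hy₁, ← hσdef]
      have h3 : t * σ * t⁻¹ = t * t * σ := by
        rw [← htσ]
        simp only [hσi]
        rw [show t * σ * (σ * t * σ) = t * σ ^ 2 * t * σ by rw [pow_two]; group, hσ2, mul_one]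
      rw [h3, ← pow_two, hg0z]
    obtain ⟨o2, -, ho2c, ho2d⟩ := exists_core_conj hu22 hv22 hproj2
    have hdu2 : Commute (el hda) u2 := Subtype.ext (by
      show (d : G) * (a * b) = a * b * d
      exact ((show Commute (d : G) a from hda).mul_right hdb).eq)
    have hdb' : Commute (el hda) (el hba) := Subtype.ext hdb
    have hdv2 : Commute (el hda) v2 :=
      (hy₁d.symm.mul_right hdb').mul_right hy₁d.symm.inv_right
    have hdy : Commute (el hda) (o2 * y₁) := (ho2d _ hdu2 hdv2).mul_right hy₁d.symm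
    have hyconj : (o2 * y₁) * el hba * (o2 * y₁)⁻¹ = u2 := by
      calc o2 * y₁ * el hba * (o2 * y₁)⁻¹ = o2 * v2 * o2⁻¹ := by rw [hv2]; group
        _ = u2 := by rw [← ho2c]; group
    set y : G := ((o2 * y₁ : cent a) : G) with hydef
    have hyb : y * b * y⁻¹ = a * b := congrArg Subtype.val hyconj
    have hya : y * a * y⁻¹ = a := mul_inv_eq_iff_eq_mul.mpr (comm_of_mem (o2 * y₁))
    have hyd : y * d * y⁻¹ = (d : G) :=
      mul_inv_eq_iff_eq_mul.mpr (congrArg Subtype.val hdy.eq).symm
    -- conjugate the pair `(a, X)` to `(d b, b)`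
    set g := y * x with hg
    have hgX : g * X * g⁻¹ = b := by
      rw [hg, hX, show y * x * (a * d) * (y * x)⁻¹ = y * ((x * a * x⁻¹) * (x * d * x⁻¹)) * y⁻¹ by group,
        hxa, hxd, show a * (d : G) * b * d = a * ((d : G) ^ 2) * b by
          rw [mul_assoc, ← hdb, pow_two]; group,
        hdG2, mul_one, show y * (a * b) * y⁻¹ = (y * a * y⁻¹) * (y * b * y⁻¹) by group, hya, hyb,
        ← mul_assoc, ← pow_two, haab, one_mul]
    have hga : g * a * g⁻¹ = d * b := by
      rw [hg, show y * x * a * (y * x)⁻¹ = y * (x * a * x⁻¹) * y⁻¹ by group, hxa,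
        show y * (a * d * b) * y⁻¹ = (y * a * y⁻¹) * (y * d * y⁻¹) * (y * b * y⁻¹) by group,
        hya, hyd, hyb, ← mul_assoc, mul_assoc a (d : G) a, hda, ← mul_assoc a a, ← pow_two, haab,
        one_mul]
    have hza_c : ∀ c ∈ KA, za * c = c * za := fun c _ => hK.z_central c
    have hKC : KA ≤ centralizer ({proj a (el hXa)} : Set _) := fun c hc => by
      rw [Subgroup.mem_centralizer_singleton_iff, hXproj]
      exact ((show Commute za c from hza_c c hc).mul_left (hdaK c hc)).eq.symm
    obtain ⟨M₀, hM₀, hM₀map, hM₀mem⟩ := lift_component (a := el hXa) (Subtype.ext hX2)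
      hK.good.comp.2 hK.good.even hKC hK.good.comp.1.subgroupOf
    set φ₀ : M₀ →* cent b ⧸ Cfsg.pPrimeCore 2 (cent b) :=
      (proj b).comp ((conjCent hgX).toMonoidHom.comp
        { toFun := fun m => el (balance hX2 haab hXa hM₀ m.2).1
          map_one' := Subtype.ext rfl
          map_mul' := fun _ _ => Subtype.ext rfl }) with hφ₀
    have haM₀ : el (rfl : a * a = a * a) ∈ M₀ :=
      hM₀mem _ (Subgroup.mem_centralizer_singleton_iff.mpr (Subtype.ext hXa.symm))
        ⟨1, Subtype.ext (by show a ^ 2 ^ 1 = 1; rw [pow_one, haab])⟩ hK.good.mem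
    set τ := φ₀ ⟨_, haM₀⟩ with hτ
    have hτval : τ = dq * zb := by
      rw [← hdq', hzb, ← map_mul]
      exact congrArg (proj b) (Subtype.ext hga)
    have hτN : τ ∈ normalizer (JB : Set _) :=
      hJ.good.layer_le_normalizer
        (proj_mem_layer (conjCent_mem_pLayer hgX (balance hX2 haab hXa hM₀ haM₀).2))
    have hτne : ∃ c ∈ JB, τ * c * τ⁻¹ ≠ c := by
      by_contra hno
      push Not at hno
      have hxc : ∀ c ∈ JB, x₀ * c = c * x₀ := by
        intro c hc
        have h1 : τ * c = c * τ := mul_inv_eq_iff_eq_mul.mp (hno c hc)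
        rw [hτval, mul_assoc dq zb c, hJ.z_central c, ← mul_assoc, ← mul_assoc] at h1
        have h1' : dq * c = c * dq := mul_right_cancel h1
        have h2 : x₀' * c = c * x₀' := comm_conj hJ.good.comp hanot hx₀ hc
        refine mul_right_cancel (b := x₀') ?_
        calc x₀ * c * x₀' = x₀ * x₀' * c := by rw [mul_assoc x₀ c x₀', ← h2, ← mul_assoc]
          _ = c * dq := h1'
          _ = c * x₀ * x₀' := by rw [hdq, mul_assoc]
      rcases hJ.good.eq_one_or hx₀ hxc with e1 | e1
      · exact hJ.good.ne (by rw [← hx₀z, e1, one_pow])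
      · exact hJ.good.ne (by rw [← hx₀z, e1, hJ.good.sq])
    have hfin := hJ.good.centralizes_of_small hK.good.comp.2 hM₀map (PCompOf.pGen_eq hM₀)
      hK.good.inn.ge φ₀
      (fun m => proj_mem_layer (conjCent_mem_pLayer hgX (balance hX2 haab hXa hM₀ m.2).2))
      hτN hτne
      (fun m => by
        rw [hτ, ← map_mul, ← map_mul]
        exact congrArg φ₀ (Subtype.ext (Subtype.ext (comm_of_mem (m : cent a)))))
      ⟨_, haM₀⟩
    obtain ⟨c, hc, hne⟩ := hτne
    exact hne (hfin c hc)

end CfsgLib.Intrinsic
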