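import Cfsg.Agent.Lib.Intrinsic.CaseA

/-!
# 2-elements of order at least 4 of `K` centralizing `b` normalize `J`

`J` is an intrinsic component of `C(b)`, `K` of `C(a)`, `a ≠ b`. A counterexample `y` with `y ^ 2 ∈ N(J)` is shown
to have order 4 with `b` its commutator with a conjugate `f` of `a` moving `K`; L-balance in `C(f)` then gives a
contradiction.
-/

set_option autoImplicit false
set_option linter.style.haveILetI false
set_option maxHeartbeats 800000

namespace CfsgLib.Intrinsic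

open Subgroup
open CfsgLib.Signalizer CfsgLib.Components

/-- A product of commuting 2-elements of odd order is trivial. -/
theorem eq_one_of_commute_pow {H : Type*} [Group H] {x y : H} {k : ℕ} (hx : x ^ 2 ^ k = 1)
    (hy : y ^ 2 ^ k = 1) (hc : Commute x y) (hodd : Odd (orderOf (x * y))) : x * y = 1 :=
  eq_one_of_two_pow (k := k) (by rw [hc.mul_pow, hx, hy, one_mul]) hodd

variable {G : Type*} [Group G] [Finite G]

theorem core_step {n : ℕ} {a b y : G} {J K : Subgroup G} {r : ℕ}
    (hJ : Intrinsic n b J) (hK : Intrinsic n a K) (hne : a ≠ b) (hyK : y ∈ K)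
    (hyb : y * b = b * y) (hr : y ^ 2 ^ (r + 1) = a) (hbK : b ∈ normalizer (K : Set G))
    (haJ : a ∈ normalizer (J : Set G)) (hyJ : y ∉ normalizer (J : Set G))
    (hy2J : y ^ 2 ∈ normalizer (J : Set G)) : False := by
  haveI : Fact (Nat.Prime 2) := ⟨Nat.prime_two⟩
  have hab : a * b = b * a := hJ.conj_eq haJ
  have hba : b * a = a * b := hab.symm
  have haab : a ^ 2 = 1 := hK.sq
  have hya : y * a = a * y := comm_of_mem (⟨y, hK.le hyK⟩ : cent a)
  have hyk : y ^ 2 ^ (r + 2) = 1 := by rw [pow_succ, pow_mul, hr, haab]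
  set JB := (J.subgroupOf (cent b)).map (proj b) with hJB
  set KA := (K.subgroupOf (cent a)).map (proj a) with hKA
  set zb := proj b (el (rfl : b * b = b * b)) with hzb
  set za := proj a (el (rfl : a * a = a * a)) with hza
  have hzac : ∀ q, za * q = q * za := hK.z_central
  set ab' := proj b (el hab) with hab'
  set σ := proj a (el hba) with hσdef
  set yq := proj b (el hyb) with hyq
  set ya := proj a (el hya) with hyadef
  have hab'2 : ab' ^ 2 = 1 := by
    rw [hab', ← map_pow, show (el hab) ^ 2 = 1 from Subtype.ext haab, map_one]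
  have hab'i := inv_eq_self_of_sq hab'2
  have hσ2 : σ ^ 2 = 1 := by
    rw [hσdef, ← map_pow, show (el hba) ^ 2 = 1 from Subtype.ext hJ.sq, map_one]
  have hσN : σ ∈ normalizer (KA : Set _) := (hK.mem_normalizer_iff _).mp hbK
  have habN : ab' ∈ normalizer (JB : Set _) := (hJ.mem_normalizer_iff _).mp haJ
  have hyN : yq ∉ normalizer (JB : Set _) := fun e => hyJ ((hJ.mem_normalizer_iff _).mpr e)
  have hyiN : yq⁻¹ ∉ normalizer (JB : Set _) := fun e => hyN (by simpa using inv_mem e)
  have hy2N : yq ^ 2 ∈ normalizer (JB : Set _) := by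
    rw [hyq, ← map_pow]
    exact (hJ.mem_normalizer_iff _).mp hy2J
  have hyqr : yq ^ 2 ^ (r + 1) = ab' := by
    rw [hyq, ← map_pow]
    exact congrArg _ (Subtype.ext hr)
  have hyq1 : yq ^ 2 ^ (r + 2) = 1 := by rw [pow_succ, pow_mul, hyqr, hab'2]
  have hya1 : ya ^ 2 ^ (r + 2) = 1 := by
    rw [hyadef, ← map_pow, show (el hya) ^ 2 ^ (r + 2) = 1 from Subtype.ext hyk, map_one]
  have hyab : Commute yq ab' := by rw [← hyqr]; exact (Commute.refl yq).pow_right _
  have hyaK : ya ∈ KA := ⟨el hya, hyK, rfl⟩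
  have hcent : ∀ q, zb * q = q * zb := hJ.z_central
  have hzconj : ∀ q, q⁻¹ * zb * q = zb := fun q => by rw [mul_assoc, hcent q, inv_mul_cancel_left]
  -- conjugates by `y` of elements of the component commute with it
  have hcc : ∀ c ∈ JB, ∀ e ∈ JB, Commute (yq⁻¹ * c * yq) e := fun c hc e he => by
    have := comm_conj hJ.good.comp hyiN hc he
    rw [inv_inv] at this
    exact this
  have hfixed : ∀ c ∈ JB, yq⁻¹ * c * yq = c → c = 1 ∨ c = zb := fun c hc e =>
    hJ.good.eq_one_or hc fun e' he' => by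
      have := hcc c hc e' he'
      rw [e] at this
      exact this.eq
  have hbnot : b ∉ K := fun e => by
    rcases hK.eq_one_or e hJ.sq with e1 | e1
    · exact hJ.ne_one e1
    · exact hne e1.symm
  -- transfer of odd order between the two quotients
  have hodd : ∀ {x : G} (hxb : x * b = b * x) (hxa : x * a = a * x), proj a (el hxa) = 1 →
      Odd (orderOf (proj b (el hxb))) := by
    intro x hxb hxa hp
    have h1 : Odd (orderOf (el hxa)) := orderOf_odd_of_proj_eq_one hp
    have h2 : orderOf (el hxb) = orderOf (el hxa) := by rw [← Subgroup.orderOf_coe, ← Subgroup.orderOf_coe]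
    exact (h2 ▸ h1).of_dvd_nat (orderOf_map_dvd _ _)
  -- `a` acts nontrivially on `J`
  have hne' : ∃ c ∈ JB, ab' * c * ab'⁻¹ ≠ c := by
    by_contra htriv
    push Not at htriv
    have hJC : JB ≤ centralizer ({ab'} : Set _) := fun c hc =>
      Subgroup.mem_centralizer_singleton_iff.mpr (mul_inv_eq_iff_eq_mul.mp (htriv c hc)).symm
    obtain ⟨M, hM, hMmap, hMmem⟩ := lift_component (a := el hab) (Subtype.ext haab)
      hJ.good.comp.2 hJ.good.even hJC hJ.good.comp.1.subgroupOf
    have hσne : ∃ c ∈ KA, σ * c * σ⁻¹ ≠ c := by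
      by_contra htriv'
      push Not at htriv'
      have hKC : KA ≤ centralizer ({σ} : Set _) := fun c hc =>
        Subgroup.mem_centralizer_singleton_iff.mpr (mul_inv_eq_iff_eq_mul.mp (htriv' c hc)).symm
      obtain ⟨M', hM', -, hM'mem⟩ := lift_component (a := el hba) (Subtype.ext hJ.sq)
        hK.good.comp.2 hK.good.even hKC hK.good.comp.1.subgroupOf
      obtain ⟨h1, h2⟩ := balance hJ.sq haab hba hM' (hM'mem (el hya)
        (Subgroup.mem_centralizer_singleton_iff.mpr (Subtype.ext hyb)) ⟨r + 2, Subtype.ext hyk⟩ hyaK)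
      exact hyJ (hJ.mem_normalizer_of_pLayer h2)
    set φ : M →* cent a ⧸ Cfsg.pPrimeCore 2 (cent a) :=
      (proj a).comp
        { toFun := fun m => el (balance haab hJ.sq hab hM m.2).1
          map_one' := Subtype.ext rfl
          map_mul' := fun _ _ => Subtype.ext rfl } with hφ
    have hMcent := hK.good.centralizes_of_small hJ.good.comp.2 hMmap (PCompOf.pGen_eq hM)
      hJ.good.inn.ge φ (fun m => proj_mem_layer (balance haab hJ.sq hab hM m.2).2) hσN hσne
      (fun m => by
        show proj a _ * proj a _ = proj a _ * proj a _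
        rw [← map_mul, ← map_mul]
        exact congrArg _ (Subtype.ext (comm_of_mem (m : cent b))))
    obtain ⟨x₀, hx₀, hx₀z⟩ := hJ.good.exists_four
    obtain ⟨u, hu, hux⟩ := hMmap.ge hx₀
    have hx4 : x₀ ^ 2 ^ 2 = 1 := by rw [pow_two 2, pow_mul, hx₀z]; exact hJ.good.sq
    obtain ⟨j, hju, -, hjproj⟩ := exists_two_lift (u := u) (k := 2) (by
      show (proj b u) ^ 2 ^ 2 = 1
      rw [show proj b u = x₀ from hux, hx4])
    have hjM : j ∈ M := zpowers_le.mpr hu hju
    have hja : (j : G) * a = a * j := (balance haab hJ.sq hab hM hjM).1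
    set c : cent b := j⁻¹ * (el hyb)⁻¹ * j * el hyb with hc
    set c' : cent a := (el hja)⁻¹ * (el hya)⁻¹ * el hja * el hya with hc'
    have hca : proj a c' = 1 := by
      have h1 : Commute (proj a (el hja)) ya :=
        mul_inv_eq_iff_eq_mul.mp (hMcent ⟨j, hjM⟩ ya hyaK)
      rw [hc', map_mul, map_mul, map_mul, map_inv, map_inv, ← hyadef, h1.inv_right.inv_left.eq,
        inv_mul_cancel_right, inv_mul_cancel]
    have h2 : Odd (orderOf (proj b c)) :=
      hodd (x := (c : G)) (comm_of_mem c) (comm_of_mem c') hca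
    have hcb : proj b c = x₀⁻¹ * (yq⁻¹ * x₀ * yq) := by
      rw [hc, map_mul, map_mul, map_mul, map_inv, map_inv,
        show proj b j = x₀ from hjproj.trans hux, ← hyq]
      group
    rw [hcb] at h2
    have h3 := eq_one_of_commute_pow (k := 2) (by rw [inv_pow, hx4, inv_one])
      (by
        have := conj_pow (a := yq⁻¹) (b := x₀) (i := 2 ^ 2)
        rw [inv_inv] at this
        rw [this, hx4, mul_one, inv_mul_cancel])
      ((hcc x₀ hx₀ x₀⁻¹ (inv_mem hx₀)).symm) h2
    rcases hfixed x₀ hx₀ (inv_mul_eq_one.mp h3).symm with e | e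
    · exact hJ.good.ne (by rw [← hx₀z, e, one_pow])
    · exact hJ.good.ne (by rw [← hx₀z, e, hJ.good.sq])
  -- the commutator of `y` with `h` lifting `t * t^y`
  obtain rfl : r = 0 := by
    set w := yq ^ 2 with hw
    have habw : ab' = w ^ 2 ^ r := by rw [hw, ← pow_mul, ← pow_succ', hyqr]
    obtain ⟨T, hTJ, hTp, hTinv, t, htT, htz⟩ := hJ.good.exists_flipped hy2N
      ⟨r + 1, by rw [hw, ← pow_mul, ← pow_succ', hyq1]⟩
      (habw ▸ pow_mem (mem_zpowers w) _) hab'2 hne'
    rw [← hzb] at htz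
    have htJ := hTJ htT
    set t' := yq⁻¹ * t * yq with ht'
    set t'' := w⁻¹ * t * w with ht''
    have ht''T : t'' ∈ T := (hTinv t htT).2
    have ht''eq : yq⁻¹ * t' * yq = t'' := by rw [ht', ht'', hw, pow_two]; group
    have htt' : Commute t' t := hcc t htJ t htJ
    have ht'z : ab' * t' * ab'⁻¹ = t' * zb := by
      have h1 : ab' * yq⁻¹ = yq⁻¹ * ab' := hyab.inv_left.eq.symm
      calc ab' * t' * ab'⁻¹ = (ab' * yq⁻¹) * t * (ab' * yq⁻¹)⁻¹ := by rw [ht']; group
        _ = yq⁻¹ * (ab' * t * ab'⁻¹) * yq := by rw [h1]; group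
        _ = yq⁻¹ * t * (yq * (yq⁻¹ * zb * yq)) := by rw [htz]; group
        _ = t' * zb := by rw [hzconj, ht']; group
    have hh : Commute (t * t') ab' := by
      refine (mul_inv_eq_iff_eq_mul.mp ?_).symm
      calc ab' * (t * t') * ab'⁻¹ = (ab' * t * ab'⁻¹) * (ab' * t' * ab'⁻¹) := by group
        _ = t * (zb * t') * zb := by rw [htz, ht'z]; group
        _ = t * t' * zb ^ 2 := by rw [hcent t', pow_two]; group
        _ = t * t' := by rw [show zb ^ 2 = 1 from hJ.good.sq, mul_one]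
    obtain ⟨h, hhp, hhab⟩ := exists_centralizing_lift (d := el hab) (q := t * t')
      (Subtype.ext haab) hh
    have hha : (h : G) * a = a * h := congrArg Subtype.val hhab.eq
    set u : cent b := h⁻¹ * (el hyb)⁻¹ * h * el hyb with hu
    set uA : cent a := (el hha)⁻¹ * (el hya)⁻¹ * el hha * el hya with huA
    set q := t⁻¹ * t'' with hq
    have huq : proj b u = q := by
      rw [hu, map_mul, map_mul, map_mul, map_inv, map_inv, show proj b h = t * t' from hhp, ← hyq]
      calc (t * t')⁻¹ * yq⁻¹ * (t * t') * yq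
          = (t'⁻¹ * t⁻¹) * (yq⁻¹ * t * yq) * (yq⁻¹ * t' * yq) := by group
        _ = (t⁻¹ * t'⁻¹) * t' * t'' := by rw [← ht', ht''eq, htt'.inv_left.inv_right.eq]
        _ = q := by rw [hq]; group
    have hqT : q ∈ T := mul_mem (T.inv_mem htT) ht''T
    obtain ⟨l, hl'⟩ := hTp ⟨q, hqT⟩
    have hl : q ^ 2 ^ l = 1 := congrArg Subtype.val hl'
    have hq1 : q ≠ 1 := by
      intro e
      have h1 : Commute w t := by
        have h2 : t = w⁻¹ * t * w := inv_mul_eq_one.mp e
        show w * t = t * w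
        conv_lhs => rw [h2]
        group
      have h3 : ab' * t * ab'⁻¹ = t := by
        rw [habw, (h1.pow_left (2 ^ r)).eq, mul_inv_cancel_right]
      rw [htz, mul_eq_left] at h3
      exact hJ.good.ne h3
    obtain ⟨u2, hu2u, ⟨l2, hl2⟩, hu2q'⟩ := exists_two_lift (u := u) (k := l) (by
      show (proj b u) ^ 2 ^ l = 1
      rw [huq, hl])
    have hu2q : proj b u2 = q := hu2q'.trans huq
    obtain ⟨j, hj⟩ := mem_zpowers_iff.mp hu2u
    have hu2A : ((uA ^ j : cent a) : G) = (u2 : G) := by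
      rw [← hj, Subgroup.coe_zpow, Subgroup.coe_zpow]
      rfl
    by_cases hhK : (h : G) ∈ normalizer (K : Set G)
    · exfalso
      have huK : (u : G) ∈ K := by
        show (h : G)⁻¹ * y⁻¹ * h * y ∈ K
        refine mul_mem ?_ hyK
        simpa using (Subgroup.mem_normalizer_iff.mp (inv_mem hhK) _).mp (inv_mem hyK)
      obtain ⟨i, hi1, hi2⟩ := exists_involution_pow hl hq1
      have hz := hJ.good.uniq _ (pow_mem (hTJ hqT) _) hi1 hi2
      have h1 : u2 ^ 2 ^ i = el (rfl : b * b = b * b) := by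
        refine eq_of_proj_commute (k := l2) (l := 1)
          (by rw [← pow_mul, mul_comm, pow_mul, hl2, one_pow])
          (Subtype.ext (by show b ^ 2 ^ 1 = 1; rw [pow_one, hJ.sq]))
          (Subtype.ext (comm_of_mem (u2 ^ 2 ^ i))) ?_
        show proj b (u2 ^ 2 ^ i) = _
        rw [map_pow, hu2q, hz]
      refine hbnot ?_
      have h2 : ((u2 ^ 2 ^ i : cent b) : G) ∈ K := by
        rw [← hj, Subgroup.coe_pow, Subgroup.coe_zpow]
        exact pow_mem (zpow_mem huK j) _
      rw [h1] at h2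
      exact h2
    · set ha' := proj a (el hha) with hha'
      have hhN : ha' ∉ normalizer (KA : Set _) := fun e => hhK ((hK.mem_normalizer_iff _).mpr e)
      have hhiN : ha'⁻¹ ∉ normalizer (KA : Set _) := fun e => hhN (by simpa using inv_mem e)
      have hf1 : Commute (ha'⁻¹ * ya⁻¹ * ha') ya := by
        have := comm_conj hK.good.comp hhiN (inv_mem hyaK) hyaK
        rw [inv_inv] at this
        exact this
      have huAy : Commute (proj a uA) ya := by
        rw [huA, map_mul, map_mul, map_mul, map_inv, map_inv]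
        exact hf1.mul_left (Commute.refl ya)
      have h4 : Commute (proj a (uA ^ j)) ya := by rw [map_zpow]; exact huAy.zpow_left j
      set c : cent b := u2⁻¹ * (el hyb)⁻¹ * u2 * el hyb with hc
      set c' : cent a := (uA ^ j)⁻¹ * (el hya)⁻¹ * uA ^ j * el hya with hc'
      have hca : proj a c' = 1 := by
        rw [hc', map_mul, map_mul, map_mul, map_inv, map_inv, ← hyadef, h4.inv_right.inv_left.eq,
          inv_mul_cancel_right, inv_mul_cancel]
      have hcc' : (c : G) = (c' : G) := by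
        show (u2 : G)⁻¹ * y⁻¹ * u2 * y = ((uA ^ j : cent a) : G)⁻¹ * y⁻¹ * ((uA ^ j : cent a) : G) * y
        rw [hu2A]
      have hca2 : (c : G) * a = a * c := hcc' ▸ comm_of_mem c'
      have hca3 : proj a (el hca2) = 1 := by
        rw [show el hca2 = c' from Subtype.ext hcc', hca]
      have h2 : Odd (orderOf (proj b c)) := hodd (comm_of_mem c) hca2 hca3
      have hcb : proj b c = q⁻¹ * (yq⁻¹ * q * yq) := by
        rw [hc, map_mul, map_mul, map_mul, map_inv, map_inv, hu2q, ← hyq]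
        group
      rw [hcb] at h2
      have h3 := eq_one_of_commute_pow (k := l) (by rw [inv_pow, hl, inv_one])
        (by
          have := conj_pow (a := yq⁻¹) (b := q) (i := 2 ^ l)
          rw [inv_inv] at this
          rw [this, hl, mul_one, inv_mul_cancel])
        ((hcc q (hTJ hqT) q⁻¹ (inv_mem (hTJ hqT))).symm) h2
      have hqz : q = zb := (hfixed q (hTJ hqT) (inv_mul_eq_one.mp h3).symm).resolve_left hq1
      by_contra hr0
      obtain ⟨r', rfl⟩ := Nat.exists_eq_succ_of_ne_zero hr0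
      -- `w ^ 2` would centralize `t`
      have hwt : w⁻¹ * t * w = t * zb := by
        rw [← hqz, hq, ht'', mul_inv_cancel_left]
      have hw2t : Commute (w ^ 2) t := by
        have h5 : w⁻¹ * (w⁻¹ * t * w) * w = t := by
          rw [hwt, show w⁻¹ * (t * zb) * w = (w⁻¹ * t * w) * (w⁻¹ * zb * w) by group, hwt, hzconj,
            mul_assoc, ← pow_two, show zb ^ 2 = 1 from hJ.good.sq, mul_one]
        show w ^ 2 * t = t * w ^ 2
        conv_lhs => rw [← h5]
        rw [pow_two]
        group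
      have h6 : ab' * t * ab'⁻¹ = t := by
        rw [habw, pow_succ', pow_mul, (hw2t.pow_left (2 ^ r')).eq, mul_inv_cancel_right]
      rw [htz, mul_eq_left] at h6
      exact hJ.good.ne h6
  rw [zero_add, pow_one] at hr hyqr
  have hyq4 : yq⁻¹ = yq * ab' := by
    refine inv_eq_of_mul_eq_one_right ?_
    rw [← mul_assoc, ← pow_two, hyqr, ← pow_two, hab'2]
  have hya2 : ya ^ 2 = za := by
    rw [hyadef, ← map_pow]
    exact congrArg _ (Subtype.ext hr)
  have hza2 : za ^ 2 = 1 := hK.good.sq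
  -- conjugation of `a` by `g * g^y`
  have hformula : ∀ g ∈ JB, (g * (yq⁻¹ * g * yq))⁻¹ * ab' * (g * (yq⁻¹ * g * yq)) =
      ab' * (ab' * g⁻¹ * ab' * g) * (yq⁻¹ * (ab' * g⁻¹ * ab' * g) * yq) := by
    intro g hg
    set g' := yq⁻¹ * g * yq with hg'
    set ρ := ab' * g⁻¹ * ab' * g with hρ
    have hρJ : ρ ∈ JB := by
      have h1 := (Subgroup.mem_normalizer_iff.mp habN _).mp (inv_mem hg)
      rw [hab'i] at h1
      exact mul_mem h1 hg
    have hga : g⁻¹ * ab' * g = ab' * ρ := by
      rw [hρ]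
      simp only [← mul_assoc]
      rw [← pow_two ab', hab'2, one_mul]
    have hg'ρ : Commute g' ρ := hcc g hg ρ hρJ
    have h1 : ab' * yq⁻¹ = yq⁻¹ * ab' := hyab.inv_left.eq.symm
    have hga' : g'⁻¹ * ab' * g' = ab' * (yq⁻¹ * ρ * yq) := by
      calc g'⁻¹ * ab' * g' = yq⁻¹ * (g⁻¹ * (yq * ab' * yq⁻¹) * g) * yq := by rw [hg']; group
        _ = yq⁻¹ * (g⁻¹ * ab' * g) * yq := by rw [hyab.eq, mul_inv_cancel_right]
        _ = (yq⁻¹ * ab') * ρ * yq := by rw [hga]; group
        _ = ab' * (yq⁻¹ * ρ * yq) := by rw [← h1]; group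
    have hρy : Commute (yq⁻¹ * ρ * yq) ρ := hcc ρ hρJ ρ hρJ
    calc (g * g')⁻¹ * ab' * (g * g') = g'⁻¹ * (g⁻¹ * ab' * g) * g' := by group
      _ = (g'⁻¹ * ab' * g') * (g'⁻¹ * ρ * g') := by rw [hga]; group
      _ = ab' * (yq⁻¹ * ρ * yq) * ρ := by
        rw [hga', mul_assoc g'⁻¹ ρ g', ← hg'ρ.eq, inv_mul_cancel_left]
      _ = ab' * ρ * (yq⁻¹ * ρ * yq) := by rw [mul_assoc, hρy.eq, ← mul_assoc]
  -- an involution of this shape moves `K` and has commutator `b` with `y`
  have hclaim : ∀ g ∈ JB, (ab' * g⁻¹ * ab' * g) ^ 2 = zb → ∀ (f : cent b) (hfa : (f : G) * a = a * f),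
      f ^ 2 = 1 →
      proj b f = (g * (yq⁻¹ * g * yq))⁻¹ * ab' * (g * (yq⁻¹ * g * yq)) →
      (f : G) ∉ normalizer (K : Set G) ∧
        (proj a (el hfa))⁻¹ * ya⁻¹ * proj a (el hfa) * ya = σ := by
    intro g hg hρz f hfa hf2 hfp
    rw [hformula g hg] at hfp
    set ρ := ab' * g⁻¹ * ab' * g with hρ
    set ρ' := yq⁻¹ * ρ * yq with hρ'
    have hρJ : ρ ∈ JB := by
      have h1 := (Subgroup.mem_normalizer_iff.mp habN _).mp (inv_mem hg)
      rw [hab'i] at h1
      exact mul_mem h1 hg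
    have hρρ' : Commute ρ' ρ := hcc ρ hρJ ρ hρJ
    have hρinv : ab' * ρ * ab' = ρ⁻¹ := by
      rw [hρ, mul_inv_rev, mul_inv_rev, mul_inv_rev, inv_inv]
      simp only [← mul_assoc]
      rw [← pow_two ab', hab'2, one_mul, hab'i]
    have hyρ' : yq⁻¹ * ρ' * yq = ρ⁻¹ := by
      rw [hρ', show yq⁻¹ * (yq⁻¹ * ρ * yq) * yq = (yq ^ 2)⁻¹ * ρ * yq ^ 2 by rw [pow_two]; group,
        hyqr, hab'i, hρinv]
    set u : cent b := f⁻¹ * (el hyb)⁻¹ * f * el hyb with hu
    have huz : proj b u = zb := by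
      rw [hu, map_mul, map_mul, map_mul, map_inv, map_inv, hfp, ← hyq]
      calc (ab' * ρ * ρ')⁻¹ * yq⁻¹ * (ab' * ρ * ρ') * yq
          = ρ'⁻¹ * ρ⁻¹ * ab'⁻¹ * (yq⁻¹ * ab' * yq) * (yq⁻¹ * ρ * yq) * (yq⁻¹ * ρ' * yq) := by group
        _ = ρ'⁻¹ * ρ⁻¹ * ρ' * ρ⁻¹ := by
          rw [show yq⁻¹ * ab' * yq = ab' by rw [mul_assoc, ← hyab.eq, inv_mul_cancel_left], ← hρ',
            hyρ']
          group
        _ = (ρ ^ 2)⁻¹ := by
          rw [mul_assoc ρ'⁻¹ ρ⁻¹ ρ', ← hρρ'.inv_right.eq, inv_mul_cancel_left, pow_two]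
          exact (mul_inv_rev ρ ρ).symm
        _ = zb := by rw [hρz, inv_eq_self_of_sq (show zb ^ 2 = 1 from hJ.good.sq)]
    obtain ⟨u2, hu2u, ⟨l2, hl2⟩, hu2q⟩ := exists_two_lift (u := u) (k := 1) (by
      show (proj b u) ^ 2 ^ 1 = 1
      rw [huz, pow_one]; exact hJ.good.sq)
    have hu2b : u2 = el (rfl : b * b = b * b) :=
      eq_of_proj_commute (k := l2) (l := 1) hl2
        (Subtype.ext (by show b ^ 2 ^ 1 = 1; rw [pow_one, hJ.sq]))
        (Subtype.ext (comm_of_mem u2)) (hu2q.trans huz)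
    obtain ⟨j, hj⟩ := mem_zpowers_iff.mp hu2u
    have huj : (u : G) ^ j = b := by
      rw [← Subgroup.coe_zpow, hj, hu2b]
    have hfN : (f : G) ∉ normalizer (K : Set G) := fun hfK => by
      refine hbnot (huj ▸ zpow_mem ?_ j)
      show (f : G)⁻¹ * y⁻¹ * f * y ∈ K
      refine mul_mem ?_ hyK
      simpa using (Subgroup.mem_normalizer_iff.mp (inv_mem hfK) _).mp (inv_mem hyK)
    refine ⟨hfN, ?_⟩
    set fa := proj a (el hfa) with hfadef
    have hfaN : fa ∉ normalizer (KA : Set _) := fun e => hfN ((hK.mem_normalizer_iff _).mpr e)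
    have hfiN : fa⁻¹ ∉ normalizer (KA : Set _) := fun e => hfaN (by simpa using inv_mem e)
    set p := fa⁻¹ * ya⁻¹ * fa * ya with hp
    have hf1 : Commute (fa⁻¹ * ya⁻¹ * fa) ya := by
      have := comm_conj hK.good.comp hfiN (inv_mem hyaK) hyaK
      rw [inv_inv] at this
      exact this
    have hp2 : p ^ 2 = 1 := by
      have h1 := conj_pow (a := fa⁻¹) (b := ya⁻¹) (i := 2)
      rw [inv_inv] at h1
      rw [hp, hf1.mul_pow, h1, inv_pow, hya2, inv_eq_self_of_sq hza2, mul_assoc fa⁻¹,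
        hK.z_central fa, inv_mul_cancel_left, ← pow_two, hza2]
    have hpj : p ^ j = σ := by
      rw [hp, hfadef, hyadef, ← map_inv, ← map_inv, ← map_mul, ← map_mul, ← map_mul, ← map_zpow]
      refine congrArg _ (Subtype.ext ?_)
      rw [Subgroup.coe_zpow]
      exact huj
    rcases Int.even_or_odd j with ⟨i, hi⟩ | ⟨i, hi⟩
    · exfalso
      rw [hi, ← two_mul, zpow_mul, zpow_two, ← pow_two, hp2, one_zpow] at hpj
      refine hJ.ne_one (congrArg Subtype.val (eq_one_of_proj (Γ := cent a) (x := el hba) (k := 1)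
        (Subtype.ext (by show b ^ 2 ^ 1 = 1; rw [pow_one, hJ.sq])) hpj.symm))
    · rwa [hi, zpow_add_one, zpow_mul, zpow_two, ← pow_two, hp2, one_zpow, one_mul] at hpj
  -- the final contradiction
  obtain ⟨g, hg, hgz⟩ := hJ.good.exists_sq hab'2 habN hne'
  set g' := yq⁻¹ * g * yq with hg'
  set ρ := ab' * g⁻¹ * ab' * g with hρ
  have hρJ : ρ ∈ JB := by
    have h1 := (Subgroup.mem_normalizer_iff.mp habN _).mp (inv_mem hg)
    rw [hab'i] at h1
    exact mul_mem h1 hg
  obtain ⟨e₀, he₀⟩ := modCore_surjective (g * g')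
  set f₀ : cent b := e₀⁻¹ * el hab * e₀ with hf₀
  have hf₀p : proj b f₀ = ab' * ρ * (yq⁻¹ * ρ * yq) := by
    rw [hf₀, map_mul, map_mul, map_inv, show proj b e₀ = g * g' from he₀, ← hab', hformula g hg]
  have hf₀2 : f₀ ^ 2 = 1 := by
    have h1 := conj_pow (a := e₀⁻¹) (b := el hab) (i := 2)
    rw [inv_inv] at h1
    rw [hf₀, h1, show (el hab) ^ 2 = 1 from Subtype.ext haab, mul_one, inv_mul_cancel]
  have hodd2 : Odd (orderOf ((el hab * f₀) ^ 2)) := by
    refine orderOf_odd_of_proj_eq_one ?_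
    show proj b ((el hab * f₀) ^ 2) = 1
    rw [map_pow, map_mul, hf₀p, ← hab', show ab' * (ab' * ρ * (yq⁻¹ * ρ * yq)) = ab' * ab' * (ρ * (yq⁻¹ * ρ * yq)) by group,
      ← pow_two ab', hab'2, one_mul,
      (hcc ρ hρJ ρ hρJ).symm.mul_pow, hgz,
      show (yq⁻¹ * ρ * yq) ^ 2 = yq⁻¹ * ρ ^ 2 * yq by rw [pow_two, pow_two]; group, hgz, hzconj,
      ← pow_two]
    exact hJ.good.sq
  obtain ⟨k, hk⟩ := exists_pow_commute (u := el hab) (v := f₀) (Subtype.ext haab) hf₀2 hodd2
  set o := ((el hab * f₀) ^ 2) ^ k with ho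
  have hop : proj b o = 1 := by
    have h0 : proj b ((el hab * f₀) ^ 2) = 1 := by
      rw [map_pow, map_mul, hf₀p, ← hab', show ab' * (ab' * ρ * (yq⁻¹ * ρ * yq)) = ab' * ab' * (ρ * (yq⁻¹ * ρ * yq)) by group,
      ← pow_two ab', hab'2, one_mul,
        (hcc ρ hρJ ρ hρJ).symm.mul_pow, hgz,
        show (yq⁻¹ * ρ * yq) ^ 2 = yq⁻¹ * ρ ^ 2 * yq by rw [pow_two, pow_two]; group, hgz, hzconj,
        ← pow_two]
      exact hJ.good.sq
    rw [ho, map_pow, h0, one_pow]
  set e : cent b := e₀ * o with he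
  set f : cent b := e⁻¹ * el hab * e with hfdef
  have hff : f = o⁻¹ * f₀ * o := by rw [hfdef, he, hf₀]; group
  have hfab : Commute (el hab) f := by rw [hff]; exact hk
  have hf2 : f ^ 2 = 1 := by
    have h1 := conj_pow (a := e⁻¹) (b := el hab) (i := 2)
    rw [inv_inv] at h1
    rw [hfdef, h1, show (el hab) ^ 2 = 1 from Subtype.ext haab, mul_one, inv_mul_cancel]
  have hep : proj b e = g * g' := by rw [he, map_mul, hop, mul_one]; exact he₀
  have hfa : (f : G) * a = a * f := (congrArg Subtype.val hfab.eq).symm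
  obtain ⟨hfN, hfσ⟩ := hclaim g hg hgz f hfa hf2
    (by rw [hfdef, map_mul, map_mul, map_inv, hep])
  -- the second conjugate
  set f2 : cent b := e * el hab * e⁻¹ with hf2def
  have hf2a : (f2 : G) * a = a * f2 := by
    refine congrArg Subtype.val (show Commute f2 (el hab) from ?_).eq
    have h1 := hfab.map (MulAut.conj e).toMonoidHom
    have h2 : (MulAut.conj e).toMonoidHom f = el hab := by
      show e * f * e⁻¹ = el hab
      rw [hfdef]; group
    rw [h2] at h1
    exact h1
  have hρ2 : (ab' * g⁻¹⁻¹ * ab' * g⁻¹) ^ 2 = zb := by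
    have h1 : ab' * g⁻¹⁻¹ * ab' * g⁻¹ = g * ρ⁻¹ * g⁻¹ := by
      rw [hρ]
      simp only [mul_inv_rev, inv_inv, hab'i]
      group
    rw [h1, conj_pow, inv_pow, hgz, inv_eq_self_of_sq (show zb ^ 2 = 1 from hJ.good.sq), ← hcent g,
      mul_inv_cancel_right]
  obtain ⟨hf2N, -⟩ := hclaim g⁻¹ (inv_mem hg) hρ2 f2 hf2a
    (by rw [hf2def, conj_pow, show (el hab) ^ 2 = 1 from Subtype.ext haab, mul_one, mul_inv_cancel])
    (by
      have hgg : g * g' = g' * g := (hcc g hg g hg).eq.symm
      rw [hf2def, map_mul, map_mul, map_inv, hep, hgg, hg', ← hab']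
      group)
  -- `a b` lies in the diagonal of `K` and its conjugate under `f`
  set fa := proj a (el hfa) with hfadef
  have hfaN : fa ∉ normalizer (KA : Set _) := fun e => hfN ((hK.mem_normalizer_iff _).mpr e)
  have hfa2 : fa ^ 2 = 1 := by
    rw [hfadef, ← map_pow, show (el hfa) ^ 2 = 1 from Subtype.ext (congrArg Subtype.val hf2 : _), map_one]
  obtain ⟨D, hDq, hDev, hDC, hDsn, -, -, hDmem⟩ := hK.good.diag_spec hfa2 hfaN
  have habA : a * b * a = a * (a * b) := by rw [mul_assoc, hba]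
  have habD : proj a (el habA) ∈ D := by
    have h1 : proj a (el habA) = za * σ := by
      rw [hza, hσdef, ← map_mul]
      exact congrArg _ (Subtype.ext rfl)
    have hyi : ya⁻¹ = ya * za := by
      refine inv_eq_of_mul_eq_one_right ?_
      rw [← mul_assoc, ← pow_two, hya2, ← pow_two, hza2]
    have h2 : za * σ = ya * (fa * ya * fa⁻¹) := by
      rw [← hfσ, hyi, inv_eq_self_of_sq hfa2]
      have h3 : Commute (fa * ya * fa) ya := by
        have := comm_conj hK.good.comp hfaN hyaK hyaK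
        rw [inv_eq_self_of_sq hfa2] at this
        exact this
      calc za * (fa * (ya * za) * fa * ya) = za * (fa * ya * (za * fa) * ya) := by group
        _ = (za * (fa * ya * fa)) * za * ya := by rw [hzac fa]; group
        _ = (fa * ya * fa) * (za * za) * ya := by rw [hzac (fa * ya * fa)]; group
        _ = ya * (fa * ya * fa) := by rw [← pow_two, hza2, mul_one, h3.eq]
    rw [h1, h2]
    exact hDmem ya hyaK
  obtain ⟨M, hM, -, hMmem⟩ := lift_component (a := el hfa)
    (Subtype.ext (congrArg Subtype.val hf2 : _)) hDq hDev hDC hDsn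
  have hfb : (f : G) * b = b * f := comm_of_mem f
  have habM : el habA ∈ M := by
    refine hMmem _ (Subgroup.mem_centralizer_singleton_iff.mpr (Subtype.ext ?_))
      ⟨1, Subtype.ext ?_⟩ habD
    · show a * b * f = f * (a * b)
      rw [mul_assoc, ← hfb, ← mul_assoc, ← hfa, mul_assoc]
    · show (a * b) ^ 2 ^ 1 = 1
      rw [pow_one, (show Commute a b from hab).mul_pow, haab, hJ.sq, one_mul]
  obtain ⟨_, hL⟩ := balance (congrArg Subtype.val hf2) haab hfa hM habM
  have hef : (e : G) * f * (e : G)⁻¹ = a := by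
    show (e : G) * ((e : G)⁻¹ * a * e) * (e : G)⁻¹ = a
    group
  have hmem := hK.mem_normalizer_of_pLayer (conjCent_mem_pLayer hef hL)
  have hval : (e : G) * (a * b) * (e : G)⁻¹ = (f2 : G) * b := by
    show (e : G) * (a * b) * (e : G)⁻¹ = (e : G) * a * (e : G)⁻¹ * b
    rw [mul_assoc ((e : G) * a), ← mul_assoc (e : G) a b, mul_assoc ((e : G) * a) b,
      show b * (e : G)⁻¹ = (e : G)⁻¹ * b from (Commute.inv_right (show Commute b (e : G) from (comm_of_mem e).symm)).eq]
  refine hf2N ?_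
  have h5 : (f2 : G) * b ∈ normalizer (K : Set G) := hval ▸ hmem
  simpa using mul_mem h5 (inv_mem hbK)

/-- 2-elements of order at least four of `K` centralizing `b` normalize `J`. -/
theorem elements_normalize {n : ℕ} {a b y : G} {J K : Subgroup G}
    (hJ : Intrinsic n b J) (hK : Intrinsic n a K) (hne : a ≠ b) (hyK : y ∈ K)
    (hy2 : ∃ k : ℕ, y ^ 2 ^ k = 1) (hy4 : 4 ≤ orderOf y) (hyb : y * b = b * y) :
    y ∈ normalizer (J : Set G) := by
  haveI : Fact (Nat.Prime 2) := ⟨Nat.prime_two⟩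
  obtain ⟨k, hk⟩ := hy2
  have hy1 : y ≠ 1 := fun e => by rw [e, orderOf_one] at hy4; omega
  obtain ⟨i, hi1, hi2⟩ := exists_involution_pow hk hy1
  have hia : y ^ 2 ^ i = a := (hK.eq_one_or (pow_mem hyK _) hi1).resolve_left hi2
  have hi0 : i ≠ 0 := by
    rintro rfl
    rw [pow_zero, pow_one] at hia
    rw [hia, hK.two] at hy4
    omega
  have hba : b * a = a * b := by
    rw [← hia]
    exact ((show Commute y b from hyb).symm.pow_right _).eq
  have hya : y * a = a * y := comm_of_mem (⟨y, hK.le hyK⟩ : cent a)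
  -- `b` normalizes `K`
  have hbK : b ∈ normalizer (K : Set G) := by
    by_contra hbK
    set σ := proj a (el hba) with hσ
    set ya := proj a (el hya) with hyadef
    have hσN : σ ∉ normalizer (((K.subgroupOf (cent a)).map (proj a) : Subgroup _) : Set _) :=
      fun e => hbK ((hK.mem_normalizer_iff _).mpr e)
    have hyaK : ya ∈ (K.subgroupOf (cent a)).map (proj a) := ⟨el hya, hyK, rfl⟩
    have hfix : σ * ya * σ⁻¹ = ya := by
      rw [mul_inv_eq_iff_eq_mul, hσ, hyadef, ← map_mul, ← map_mul]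
      exact congrArg _ (Subtype.ext hyb.symm)
    have hcen : ∀ c ∈ (K.subgroupOf (cent a)).map (proj a), ya * c = c * ya := fun c hc => by
      have := comm_conj hK.good.comp hσN hyaK hc
      rwa [hfix] at this
    have hk' : (el hya : cent a) ^ 2 ^ k = 1 := Subtype.ext hk
    rcases hK.good.eq_one_or hyaK hcen with e | e
    · exact hy1 (congrArg Subtype.val (eq_one_of_proj hk' e))
    · have := eq_of_proj_commute hk' (l := 1)
        (show (el (rfl : a * a = a * a)) ^ 2 ^ 1 = 1 from Subtype.ext (by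
          show a ^ 2 ^ 1 = 1; rw [pow_one, hK.sq]))
        (Subtype.ext hya) e
      rw [show y = a from congrArg Subtype.val this, hK.two] at hy4
      omega
  have haJ := normalizes_of_normalizes hJ hK hbK
  by_contra hyJ
  classical
  have hex : ∃ m : ℕ, y ^ 2 ^ m ∈ normalizer (J : Set G) := ⟨i, hia ▸ haJ⟩
  set m := Nat.find hex with hm
  have hmem : y ^ 2 ^ m ∈ normalizer (J : Set G) := Nat.find_spec hex
  have hm0 : m ≠ 0 := fun e => by rw [e, pow_zero, pow_one] at hmem; exact hyJ hmem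
  obtain ⟨j, hj⟩ := Nat.exists_eq_succ_of_ne_zero hm0
  have hmi : m ≤ i := Nat.find_min' hex (hia ▸ haJ)
  obtain ⟨r, hr⟩ : ∃ r, i = j + (r + 1) := ⟨i - (j + 1), by omega⟩
  refine core_step (y := y ^ 2 ^ j) (r := r) hJ hK hne (pow_mem hyK _)
    ((show Commute y b from hyb).pow_left _).eq ?_ hbK haJ ?_ ?_
  · rw [← pow_mul, ← pow_add, ← hr, hia]
  · exact fun e => Nat.find_min hex (show j < m by omega) e
  · rw [← pow_mul, ← pow_succ]
    rw [hj] at hmem
    exact hmem

end CfsgLib.Intrinsic
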