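import Cfsg.Agent.Lib.Intrinsic.Basic
import Cfsg.Agent.Lib.Components.Diagonal
import Cfsg.Agent.Lib.ZStar.FusionCenter

/-!
# Components with a centre of order two and a unique involution

`Good n z C`: `C` is a component whose centre has order 2 with inner automorphism group of order `n`,
`z` its only involution. For an involution `σ` normalizing `C` and acting nontrivially:

* `exists_sq`: some `σ g⁻¹ σ g` (`g ∈ C`) squares to `z` (Z*);
* `exists_flipped`: an element `t` with `σ t σ⁻¹ = t z` in an invariant 2-subgroup;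
* `centralizes_of_small`: a 2-component mapping into the layer and commuting with `σ` acts trivially;
* `diag_spec`: the diagonal of `C` and a conjugate.
-/

set_option autoImplicit false
set_option linter.style.haveILetI false

namespace CfsgLib.Intrinsic

open Subgroup
open CfsgLib.Signalizer CfsgLib.Components
open scoped commutatorElement Pointwise

variable {Q : Type*} [Group Q]

/-- A component with centre of order 2 and a unique involution `z`. -/
structure Good (n : ℕ) (z : Q) (C : Subgroup Q) : Prop where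
  comp : Cfsg.IsComponent C
  centerCard : Nat.card (Subgroup.center C) = 2
  inn : Nat.card (↥C ⧸ Subgroup.center C) = n
  mem : z ∈ C
  sq : z ^ 2 = 1
  ne : z ≠ 1
  uniq : ∀ x ∈ C, x ^ 2 = 1 → x ≠ 1 → x = z

/-- A map from a perfect group with kernel-free image in an abelian target is trivial. -/
theorem hom_trivial_of_perfect {C : Type*} [Group C] [Group.IsPerfect C] {A : Type*} [Group A]
    (χ : C →* A) (hA : ∀ x y : C, χ x * χ y = χ y * χ x) (c : C) : χ c = 1 := by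
  have h : _root_.commutator C ≤ χ.ker := by
    rw [_root_.commutator_def, Subgroup.commutator_le]
    intro x _ y _
    rw [MonoidHom.mem_ker, map_commutatorElement, commutatorElement_eq_one_iff_mul_comm]
    exact hA x y
  exact h ((Group.IsPerfect.commutator_eq_top (G := C)).ge (Subgroup.mem_top c))

namespace Good

variable {n : ℕ} {z : Q} {C : Subgroup Q}

theorem eq_one_or (h : Good n z C) {c : Q} (hc : c ∈ C) (hcc : ∀ d ∈ C, c * d = d * c) :
    c = 1 ∨ c = z := by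
  by_cases h1 : c = 1
  · exact Or.inl h1
  refine Or.inr (h.uniq c hc ?_ h1)
  have hmem : (⟨c, hc⟩ : C) ∈ Subgroup.center C :=
    Subgroup.mem_center_iff.mpr fun d => Subtype.ext (hcc d d.2).symm
  have := (Subgroup.center C).orderOf_dvd_natCard hmem
  rw [h.centerCard] at this
  exact congrArg Subtype.val (orderOf_dvd_iff_pow_eq_one.mp this)

theorem z_comm (h : Good n z C) {c : Q} (hc : c ∈ C) : z * c = c * z := by
  obtain ⟨⟨w, hw⟩, hw1, -⟩ := (Nat.card_eq_two_iff' (1 : Subgroup.center C)).mp h.centerCard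
  have hcc : ∀ d ∈ C, (w : Q) * d = d * w := fun d hd =>
    congrArg Subtype.val (Subgroup.mem_center_iff.mp hw ⟨d, hd⟩).symm
  rcases h.eq_one_or w.2 hcc with h1 | h1
  · exact absurd (Subtype.ext (Subtype.ext h1)) hw1
  · rw [← h1]; exact hcc c hc

theorem conj_z (h : Good n z C) {x : Q} (hx : x ∈ normalizer (C : Set Q)) : x * z * x⁻¹ = z := by
  refine h.uniq _ ((Subgroup.mem_normalizer_iff.mp hx z).mp h.mem) ?_ ?_
  · rw [conj_pow, h.sq, mul_one, mul_inv_cancel]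
  · intro e
    exact h.ne (by rwa [mul_inv_eq_one, mul_eq_left] at e)

variable [Finite Q]

theorem exists_four (h : Good n z C) : ∃ x ∈ C, x ^ 2 = z := by
  haveI : Fact (Nat.Prime 2) := ⟨Nat.prime_two⟩
  haveI := h.comp.2.1
  by_contra hno
  push Not at hno
  have hd : 2 ∣ Nat.card C := h.centerCard ▸ Subgroup.card_subgroup_dvd_card (Subgroup.center C)
  refine not_dvd_of_sylow_central h.comp.2.1 (default : Sylow 2 C) ?_ hd
  intro x hx
  obtain ⟨k, hk⟩ := (default : Sylow 2 C).isPGroup' ⟨x, hx⟩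
  have hk' : (x : Q) ^ 2 ^ k = 1 := congrArg Subtype.val (congrArg Subtype.val hk)
  rw [Subgroup.mem_center_iff]
  intro d
  by_cases hx1 : (x : Q) = 1
  · rw [show x = 1 from Subtype.ext hx1, mul_one, one_mul]
  obtain ⟨i, hi1, hi2⟩ := exists_involution_pow hk' hx1
  have hz := h.uniq _ (pow_mem x.2 _) hi1 hi2
  cases i with
  | zero =>
    rw [pow_zero, pow_one] at hz
    apply Subtype.ext
    show (d : Q) * x = x * d
    rw [hz]
    exact (h.z_comm d.2).symm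
  | succ i =>
    rw [pow_succ, pow_mul] at hz
    exact absurd hz (hno _ (pow_mem x.2 _))

theorem four_dvd (h : Good n z C) : 4 ∣ Nat.card C := by
  obtain ⟨x, hx, hxz⟩ := h.exists_four
  have : orderOf x = 2 ^ (1 + 1) := by
    refine orderOf_eq_prime_pow (hp := ⟨Nat.prime_two⟩) ?_ ?_
    · rw [pow_one, hxz]; exact h.ne
    · rw [pow_succ, pow_one, pow_mul, hxz, h.sq]
  have h4 := C.orderOf_dvd_natCard hx
  rw [this] at h4
  exact h4

theorem even (h : Good n z C) : 2 ∣ Nat.card C := dvd_trans (by norm_num) h.four_dvd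

theorem layer_le_normalizer (h : Good n z C) : Cfsg.layer Q ≤ normalizer (C : Set Q) := fun _ hl =>
  component_le_normalizer_layer_member h.comp hl

/-- Elements of the layer act on a component as its own elements. -/
theorem layer_act (h : Good n z C) {l : Q} (hl : l ∈ Cfsg.layer Q) :
    ∃ c ∈ C, ∀ d ∈ C, l * d * l⁻¹ = c * d * c⁻¹ := by
  have hle : Cfsg.layer Q ≤ C ⊔ centralizer (C : Set Q) := layer_le_iff.mpr fun L hL => by
    rcases eq_or_ne L C with rfl | hne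
    · exact le_sup_left
    · refine le_trans ?_ le_sup_right
      exact Subgroup.commutator_eq_bot_iff_le_centralizer.mp (components_commute hL h.comp hne)
  have hmem : l ∈ ((C ⊔ centralizer (C : Set Q) : Subgroup Q) : Set Q) := hle hl
  rw [Subgroup.coe_mul_of_right_le_normalizer_left C (centralizer (C : Set Q))
    (Subgroup.centralizer_le_normalizer _)] at hmem
  obtain ⟨c, hc, r, hr, rfl⟩ := hmem
  refine ⟨c, hc, fun d hd => ?_⟩
  have h1 : d * r = r * d := Subgroup.mem_centralizer_iff.mp hr d hd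
  show c * r * d * (c * r)⁻¹ = _
  rw [mul_inv_rev, mul_assoc c r d, ← h1]
  group

/-- An automorphism trivial modulo the centre is trivial. -/
theorem centralizes_of_mod_center (h : Good n z C) {σ : Q}
    (hσ : σ ∈ normalizer (C : Set Q)) (hmod : ∀ c ∈ C, σ * c * σ⁻¹ = c ∨ σ * c * σ⁻¹ = c * z) :
    ∀ c ∈ C, σ * c * σ⁻¹ = c := by
  haveI := h.comp.2.1
  have hcent : ∀ c ∈ C, ∀ d ∈ C, (c⁻¹ * (σ * c * σ⁻¹)) * d = d * (c⁻¹ * (σ * c * σ⁻¹)) := by
    intro c hc d hd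
    rcases hmod c hc with e | e <;> rw [e]
    · rw [inv_mul_cancel, one_mul, mul_one]
    · rw [inv_mul_cancel_left]; exact h.z_comm hd
  have hin : ∀ c ∈ C, c⁻¹ * (σ * c * σ⁻¹) ∈ C := fun c hc =>
    mul_mem (inv_mem hc) ((Subgroup.mem_normalizer_iff.mp hσ c).mp hc)
  let χ : C →* C :=
    { toFun := fun c => ⟨(c : Q)⁻¹ * (σ * c * σ⁻¹), hin c c.2⟩
      map_one' := Subtype.ext (by simp)
      map_mul' := fun c d => Subtype.ext (by
        have h1 := hcent c c.2 (d : Q)⁻¹ (inv_mem d.2)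
        show ((c : Q) * d)⁻¹ * (σ * ((c : Q) * d) * σ⁻¹) =
          (c : Q)⁻¹ * (σ * c * σ⁻¹) * ((d : Q)⁻¹ * (σ * d * σ⁻¹))
        rw [← mul_assoc ((c : Q)⁻¹ * (σ * c * σ⁻¹)), h1]
        group) }
  intro c hc
  have h1 := hom_trivial_of_perfect χ (fun x y => Subtype.ext (hcent x x.2 _ (χ y).2)) ⟨c, hc⟩
  have h2 : c⁻¹ * (σ * c * σ⁻¹) = 1 := congrArg Subtype.val h1
  exact (inv_mul_eq_one.mp h2).symm

/-- A 2-component with small inner image acts trivially. -/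
theorem centralizes_of_small (h : Good n z C) {Γ : Type*} [Group Γ] [Finite Γ] {M : Subgroup Γ}
    {D : Subgroup (Γ ⧸ Cfsg.pPrimeCore 2 Γ)} (hD : Cfsg.IsQuasisimple D)
    (hMmap : M.map (modCore 2 Γ) = D) (hgen : pGen 2 M = M)
    (hn : n ≤ Nat.card (↥D ⧸ Subgroup.center D))
    (φ : M →* Q) (hφ : ∀ m, φ m ∈ Cfsg.layer Q) {σ : Q} (hσ : σ ∈ normalizer (C : Set Q))
    (hσne : ∃ c ∈ C, σ * c * σ⁻¹ ≠ c) (hcomm : ∀ m, φ m * σ = σ * φ m) :
    ∀ m, ∀ c ∈ C, φ m * c * (φ m)⁻¹ = c := by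
  have hN : ∀ m, φ m ∈ normalizer (C : Set Q) := fun m => h.layer_le_normalizer (hφ m)
  set ψ : normalizer (C : Set Q) →* MulAut C := C.normalizerMonoidHom with hψ
  have hψv : ∀ (x : normalizer (C : Set Q)) (c : C), ((ψ x c : C) : Q) = (x : Q) * c * (x : Q)⁻¹ :=
    fun _ _ => rfl
  set φ' : M →* MulAut C := ψ.comp (φ.codRestrict _ hN) with hφ'
  set I : Subgroup (MulAut C) := (MulAut.conj (G := C)).range with hI
  have hcard : Nat.card I = n := by
    rw [← h.inn]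
    refine Nat.card_congr ((QuotientGroup.quotientMulEquivOfEq ?_).trans
      (QuotientGroup.quotientKerEquivRange (MulAut.conj (G := C)))).symm.toEquiv
    ext c
    rw [MonoidHom.mem_ker, Subgroup.mem_center_iff]
    constructor
    · intro hc
      ext d
      simp only [MulAut.conj_apply, MulAut.one_apply]
      rw [← hc d, mul_inv_cancel_right]
    · intro hc d
      have h1 := DFunLike.congr_fun hc d
      simp only [MulAut.conj_apply, MulAut.one_apply] at h1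
      exact (mul_inv_eq_iff_eq_mul.mp h1).symm
  haveI : Finite (MulAut C) := Finite.of_injective (fun e : MulAut C => (e : C → C)) DFunLike.coe_injective
  have hrange : φ'.range ≤ I := by
    rintro _ ⟨m, rfl⟩
    obtain ⟨c, hc, hact⟩ := h.layer_act (hφ m)
    exact ⟨⟨c, hc⟩, MulEquiv.ext fun d => Subtype.ext (hact d d.2).symm⟩
  have hlt : Nat.card φ'.range < n := by
    rw [← hcard]
    refine lt_of_le_of_ne (Subgroup.card_le_of_le hrange) fun e => ?_
    have heq : φ'.range = I := Subgroup.eq_of_le_of_card_ge hrange e.ge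
    obtain ⟨c₀, hc₀, hne⟩ := hσne
    refine hne (h.centralizes_of_mod_center hσ (fun c hc => ?_) c₀ hc₀)
    obtain ⟨m, hm⟩ := heq.ge (⟨⟨c, hc⟩, rfl⟩ : MulAut.conj (⟨c, hc⟩ : C) ∈ I)
    have hact : ∀ d ∈ C, φ m * d * (φ m)⁻¹ = c * d * c⁻¹ := fun d hd => by
      have h3 : ((φ' m ⟨d, hd⟩ : C) : Q) = (((MulAut.conj (⟨c, hc⟩ : C)) ⟨d, hd⟩ : C) : Q) := by
        rw [hm]
      exact h3
    have hσc : σ * c * σ⁻¹ ∈ C := (Subgroup.mem_normalizer_iff.mp hσ c).mp hc
    have hcen : ∀ d ∈ C, (c⁻¹ * (σ * c * σ⁻¹)) * d = d * (c⁻¹ * (σ * c * σ⁻¹)) := by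
      intro d hd
      have hd' : σ⁻¹ * d * σ ∈ C := by
        have := (Subgroup.mem_normalizer_iff.mp (inv_mem hσ) d).mp hd
        rwa [inv_inv] at this
      have h2 : (σ * c * σ⁻¹) * d * (σ * c * σ⁻¹)⁻¹ = c * d * c⁻¹ := by
        rw [← hact d hd, show (σ * c * σ⁻¹) * d * (σ * c * σ⁻¹)⁻¹ =
          σ * (c * (σ⁻¹ * d * σ) * c⁻¹) * σ⁻¹ by group, ← hact _ hd']
        calc σ * (φ m * (σ⁻¹ * d * σ) * (φ m)⁻¹) * σ⁻¹
            = (σ * φ m) * σ⁻¹ * d * ((σ * φ m) * σ⁻¹)⁻¹ := by group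
          _ = φ m * d * (φ m)⁻¹ := by rw [← hcomm m, mul_inv_cancel_right]
      calc (c⁻¹ * (σ * c * σ⁻¹)) * d
          = c⁻¹ * ((σ * c * σ⁻¹) * d * (σ * c * σ⁻¹)⁻¹) * (σ * c * σ⁻¹) := by group
        _ = d * (c⁻¹ * (σ * c * σ⁻¹)) := by rw [h2]; group
    rcases h.eq_one_or (mul_mem (inv_mem hc) hσc) hcen with e1 | e1
    · exact Or.inl (inv_mul_eq_one.mp e1).symm
    · exact Or.inr (eq_mul_of_inv_mul_eq e1)
  have hker := trivial_of_small hD hMmap hgen φ' (hlt.trans_le hn)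
  intro m c hc
  have h1 : φ' m = 1 := (hker.ge (Subgroup.mem_top m) : m ∈ φ'.ker)
  exact congrArg Subtype.val (DFunLike.congr_fun h1 ⟨c, hc⟩)

/-- A product `σ g⁻¹ σ g` of 2-power order `≥ 4` gives one squaring to `z`. -/
theorem sq_of_two_element (h : Good n z C) {σ g : Q} (hσ2 : σ ^ 2 = 1)
    (hσ : σ ∈ normalizer (C : Set Q)) (hg : g ∈ C) {k : ℕ} (hk : (σ * g⁻¹ * σ * g) ^ 2 ^ k = 1)
    (hne : (σ * g⁻¹ * σ * g) ^ 2 ≠ 1) : ∃ g' ∈ C, (σ * g'⁻¹ * σ * g') ^ 2 = z := by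
  set ρ := σ * g⁻¹ * σ * g with hρ
  have hσi : σ⁻¹ = σ := inv_eq_self_of_sq hσ2
  have hρC : ρ ∈ C := by
    rw [hρ]
    nth_rewrite 2 [← hσi]
    exact mul_mem ((Subgroup.mem_normalizer_iff.mp hσ _).mp (inv_mem hg)) hg
  have hinv : σ * ρ * σ⁻¹ = ρ⁻¹ := by
    rw [hρ, mul_inv_rev, mul_inv_rev, mul_inv_rev, inv_inv]
    simp only [hσi]
    rw [show σ * (σ * g⁻¹ * σ * g) * σ = σ ^ 2 * (g⁻¹ * σ * g * σ) by rw [pow_two]; group, hσ2, one_mul]
    group
  obtain ⟨i, hi1, hi2⟩ := exists_involution_pow (x := ρ ^ 2) (k := k)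
    (by rw [← pow_mul, mul_comm, pow_mul, hk, one_pow]) hne
  have hz := h.uniq _ (pow_mem (pow_mem hρC 2) _) hi1 hi2
  rw [← pow_mul, mul_comm, pow_mul] at hz
  cases i with
  | zero => exact ⟨g, hg, by rwa [pow_zero, pow_one] at hz⟩
  | succ i =>
    refine ⟨ρ ^ 2 ^ i, pow_mem hρC _, ?_⟩
    have h1 : σ * (ρ ^ 2 ^ i)⁻¹ * σ = ρ ^ 2 ^ i := by
      rw [← inv_pow, ← hinv, conj_pow]
      simp only [hσi]
      rw [show σ * (σ * ρ ^ 2 ^ i * σ) * σ = σ ^ 2 * ρ ^ 2 ^ i * σ ^ 2 by rw [pow_two]; group, hσ2,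
        one_mul, mul_one]
    rw [h1, ← pow_two, ← pow_mul, ← hz, ← pow_mul, ← pow_mul]
    congr 1
    rw [pow_succ]
    ring

/-- An involution acting nontrivially has two conjugates under `C` whose product squares to `z`. -/
theorem exists_sq (h : Good n z C) {σ : Q} (hσ2 : σ ^ 2 = 1) (hσ : σ ∈ normalizer (C : Set Q))
    (hne : ∃ c ∈ C, σ * c * σ⁻¹ ≠ c) : ∃ g ∈ C, (σ * g⁻¹ * σ * g) ^ 2 = z := by
  haveI : Fact (Nat.Prime 2) := ⟨Nat.prime_two⟩
  by_contra hno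
  push Not at hno
  have hsmall : ∀ g ∈ C, (∃ k : ℕ, (σ * g⁻¹ * σ * g) ^ 2 ^ k = 1) →
      σ * g⁻¹ * σ * g = 1 ∨ σ * g⁻¹ * σ * g = z := by
    rintro g hg ⟨k, hk⟩
    by_cases h2 : (σ * g⁻¹ * σ * g) ^ 2 = 1
    · by_cases h1 : σ * g⁻¹ * σ * g = 1
      · exact Or.inl h1
      · refine Or.inr (h.uniq _ ?_ h2 h1)
        have := (Subgroup.mem_normalizer_iff.mp hσ g⁻¹).mp (inv_mem hg)
        rw [inv_eq_self_of_sq hσ2] at this
        exact mul_mem this hg
    · obtain ⟨g', hg', hz⟩ := h.sq_of_two_element hσ2 hσ hg hk h2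
      exact absurd hz (hno g' hg')
  set Y := C ⊔ zpowers σ with hY
  have hσY : σ ∈ Y := Subgroup.mem_sup_right (mem_zpowers σ)
  have hσN : zpowers σ ≤ normalizer (C : Set Q) := zpowers_le.mpr hσ
  have hdec : ∀ x ∈ Y, ∃ c ∈ C, ∃ i : ℤ, x = c * σ ^ i := by
    intro x hx
    have hx' : x ∈ ((C ⊔ zpowers σ : Subgroup Q) : Set Q) := hx
    rw [Subgroup.coe_mul_of_right_le_normalizer_left C (zpowers σ) hσN] at hx'
    obtain ⟨c, hc, w, hw, rfl⟩ := hx'
    obtain ⟨i, rfl⟩ := mem_zpowers_iff.mp hw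
    exact ⟨c, hc, i, rfl⟩
  have hzY : ∀ x ∈ Y, z * x = x * z := by
    intro x hx
    obtain ⟨c, hc, i, rfl⟩ := hdec x hx
    have h1 : Commute z σ := (mul_inv_eq_iff_eq_mul.mp (h.conj_z hσ)).symm
    exact (Commute.mul_right (h.z_comm hc) (h1.zpow_right i)).eq
  set z' : Y := ⟨z, Subgroup.mem_sup_left h.mem⟩ with hz'
  set Zs : Subgroup Y := zpowers z' with hZs
  have hz'2 : z' ^ 2 = 1 := Subtype.ext h.sq
  haveI hZn : Zs.Normal := by
    refine ⟨fun x hx g => ?_⟩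
    obtain ⟨i, rfl⟩ := mem_zpowers_iff.mp hx
    have h1 : Commute g z' := Subtype.ext (hzY g g.2).symm
    rw [(h1.zpow_right i).eq, mul_inv_cancel_right]
    exact zpow_mem (mem_zpowers z') i
  set s : Y := ⟨σ, hσY⟩ with hs
  have hsZ : IsPGroup 2 (zpowers s) :=
    fun ⟨x, hx⟩ => ⟨1, Subtype.ext (by
      obtain ⟨i, rfl⟩ := mem_zpowers_iff.mp hx
      show (s ^ i) ^ 2 ^ 1 = 1
      rw [pow_one, ← zpow_natCast, ← zpow_mul, mul_comm, zpow_mul, zpow_natCast,
        show s ^ 2 = 1 from Subtype.ext hσ2, one_zpow])⟩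
  obtain ⟨P₀, hP₀⟩ := hsZ.exists_le_sylow
  have hZP : Zs ≤ P₀ := by
    have hp : IsPGroup 2 Zs := fun ⟨x, hx⟩ => ⟨1, Subtype.ext (by
      obtain ⟨i, rfl⟩ := mem_zpowers_iff.mp hx
      show (z' ^ i) ^ 2 ^ 1 = 1
      rw [pow_one, ← zpow_natCast, ← zpow_mul, mul_comm, zpow_mul, zpow_natCast, hz'2, one_zpow])⟩
    exact P₀.is_maximal' (P₀.isPGroup'.to_sup_of_normal_right hp) le_sup_left ▸ le_sup_right
  have hsP : s ∈ (P₀ : Subgroup Y) := hP₀ (mem_zpowers s)
  -- conjugates of `s` in the Sylow subgroup differ from `s` by `z`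
  have hkey : ∀ y : Y, y * s * y⁻¹ ∈ (P₀ : Subgroup Y) → y * s * y⁻¹ * s⁻¹ ∈ Zs := by
    intro y hy
    obtain ⟨c, hc, i, hci⟩ := hdec y y.2
    have h1 : ((y * s * y⁻¹ * s⁻¹ : Y) : Q) = c * σ * c⁻¹ * σ := by
      show (y : Q) * σ * (y : Q)⁻¹ * σ⁻¹ = _
      rw [hci, inv_eq_self_of_sq hσ2, mul_inv_rev,
        show c * σ ^ i * σ * ((σ ^ i)⁻¹ * c⁻¹) * σ = c * (σ ^ i * σ * (σ ^ i)⁻¹) * c⁻¹ * σ by group,
        show σ ^ i * σ * (σ ^ i)⁻¹ = σ by group]
    have hmem : y * s * y⁻¹ * s⁻¹ ∈ (P₀ : Subgroup Y) := mul_mem hy (inv_mem hsP)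
    obtain ⟨k, hk⟩ := P₀.isPGroup' ⟨_, hmem⟩
    have hk' : (c * σ * c⁻¹ * σ) ^ 2 ^ k = 1 := by
      rw [← h1]
      exact congrArg Subtype.val (congrArg Subtype.val hk)
    have hk'' : (σ * c * σ * c⁻¹) ^ 2 ^ k = 1 := by
      rw [show σ * c * σ * c⁻¹ = σ * (c * σ * c⁻¹ * σ) * σ⁻¹ by group, conj_pow, hk', mul_one,
        mul_inv_cancel]
    have hcs : c * σ * c⁻¹ * σ = (σ * c * σ * c⁻¹)⁻¹ := by
      rw [mul_inv_rev, mul_inv_rev, mul_inv_rev, inv_inv, inv_eq_self_of_sq hσ2]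
      group
    rcases hsmall c⁻¹ (inv_mem hc) ⟨k, by rwa [inv_inv]⟩ with e | e <;> rw [inv_inv] at e
    · rw [show y * s * y⁻¹ * s⁻¹ = 1 from Subtype.ext (by rw [h1, hcs, e, inv_one]; rfl)]
      exact one_mem _
    · rw [show y * s * y⁻¹ * s⁻¹ = z' from Subtype.ext (by rw [h1, hcs, e, inv_eq_self_of_sq h.sq])]
      exact mem_zpowers z'
  set π := QuotientGroup.mk' Zs with hπ
  set P₁ : Sylow 2 (Y ⧸ Zs) := P₀.mapSurjective (f := π) (QuotientGroup.mk'_surjective Zs) with hP₁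
  have hfix : ZStar.Fixed (P₁ : Subgroup (Y ⧸ Zs)) (π s) := by
    rw [hP₁, Sylow.coe_mapSurjective]
    refine ⟨mem_map_of_mem π hsP, fun q k hq => ?_⟩
    obtain ⟨y, rfl⟩ := QuotientGroup.mk'_surjective Zs q
    rcases Nat.even_or_odd k with ⟨r, hr⟩ | hk
    · have hp : (π s) ^ k = 1 := by
        rw [hr, ← two_mul, pow_mul, ← map_pow, show s ^ 2 = 1 from Subtype.ext hσ2, map_one, one_pow]
      rw [hp, mul_one, mul_inv_cancel]
    · have hp : (π s) ^ k = π s :=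
        pow_odd_of_sq (by rw [← map_pow, show s ^ 2 = 1 from Subtype.ext hσ2, map_one]) hk
      rw [hp] at hq ⊢
      rw [← map_inv, ← map_mul, ← map_mul] at hq ⊢
      have hy : y * s * y⁻¹ ∈ (P₀ : Subgroup Y) := by
        obtain ⟨p, hp', hpe⟩ := hq
        have h2 : p⁻¹ * (y * s * y⁻¹) ∈ Zs := QuotientGroup.eq.mp hpe
        simpa using mul_mem hp' (hZP h2)
      refine mul_inv_eq_one.mp ?_
      rw [← map_inv, ← map_mul]
      exact (QuotientGroup.eq_one_iff _).mpr (hkey y hy)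
  have hcore : ∀ y : Y, π (s * y * s⁻¹ * y⁻¹) ∈ Cfsg.oddCore (Y ⧸ Zs) := fun y => by
    have := ZStar.commutator_mem_oddCore_of_fixed P₁ hfix (π y)
    rwa [← map_inv, ← map_inv, ← map_mul, ← map_mul, ← map_mul] at this
  -- the preimage of the core meets `C` in a central subgroup
  haveI hOn : (Cfsg.oddCore (Y ⧸ Zs)).Normal := pPrimeCore_normal 2
  set N := (Cfsg.oddCore (Y ⧸ Zs)).comap π with hN
  haveI : N.Normal := hOn.comap π
  set NC : Subgroup C := N.comap (Subgroup.inclusion (le_sup_left : C ≤ Y)) with hNC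
  have hNCle : NC ≤ Subgroup.center C := by
    refine IsQuasisimple.le_center_of_ne_top h.comp.2 inferInstance fun e => ?_
    have hle : (⊤ : Subgroup C).map (Subgroup.inclusion (le_sup_left : C ≤ Y)) ≤ N :=
      map_le_iff_le_comap.mpr e.ge
    have hd : Nat.card C ∣ Nat.card N := by
      have := Subgroup.card_dvd_of_le hle
      rwa [Subgroup.card_map_of_injective (Subgroup.inclusion_injective _), Subgroup.card_top] at this
    have hNcard : Nat.card N ∣ 2 * Nat.card (Cfsg.oddCore (Y ⧸ Zs)) := by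
      have h1 := Subgroup.card_eq_card_quotient_mul_card_subgroup (Zs.subgroupOf N)
      have hle' : Zs ≤ N := fun x hx => by
        show π x ∈ Cfsg.oddCore (Y ⧸ Zs)
        rw [show π x = 1 from (QuotientGroup.eq_one_iff x).mpr hx]; exact one_mem _
      rw [Nat.card_congr (Subgroup.subgroupOfEquivOfLe hle').toEquiv] at h1
      have h2 : Nat.card Zs ∣ 2 := by
        rw [hZs, Nat.card_zpowers]; exact orderOf_dvd_of_pow_eq_one hz'2
      have h3 : Nat.card (↥N ⧸ Zs.subgroupOf N) = Nat.card (Cfsg.oddCore (Y ⧸ Zs)) := by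
        rw [← Subgroup.index_eq_card, ← Subgroup.relIndex, ← Subgroup.relIndex_bot_left (Cfsg.oddCore _)]
        conv_lhs => rw [show Zs = (⊥ : Subgroup (Y ⧸ Zs)).comap π by
          rw [MonoidHom.comap_bot, hπ, QuotientGroup.ker_mk']]
        rw [Subgroup.relIndex_comap, hN,
          Subgroup.map_comap_eq_self_of_surjective (QuotientGroup.mk'_surjective Zs)]
      rw [h1, h3, mul_comm]
      exact Nat.mul_dvd_mul h2 dvd_rfl
    have hodd : Odd (Nat.card (Cfsg.oddCore (Y ⧸ Zs))) := core_odd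
    obtain ⟨r, hr⟩ := hodd
    have h4 := (h.four_dvd.trans hd).trans hNcard
    omega
  obtain ⟨c₀, hc₀, hne'⟩ := hne
  refine hne' (h.centralizes_of_mod_center hσ (fun c hc => ?_) c₀ hc₀)
  have hmem : σ * c * σ⁻¹ * c⁻¹ ∈ C :=
    mul_mem ((Subgroup.mem_normalizer_iff.mp hσ c).mp hc) (inv_mem hc)
  have h1 : (⟨_, hmem⟩ : C) ∈ NC := hcore ⟨c, Subgroup.mem_sup_left hc⟩
  have h2 := Subgroup.mem_center_iff.mp (hNCle h1)
  rcases h.eq_one_or hmem (fun d hd => (congrArg Subtype.val (h2 ⟨d, hd⟩)).symm) with e | e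
  · exact Or.inl (mul_inv_eq_one.mp e)
  · exact Or.inr (by rw [← h.z_comm hc]; exact mul_inv_eq_iff_eq_mul.mp e)

/-- A flipped element in an invariant 2-subgroup. -/
theorem exists_flipped (h : Good n z C) {σ w : Q} (hw : w ∈ normalizer (C : Set Q))
    (hw2 : ∃ k : ℕ, w ^ 2 ^ k = 1) (hσw : σ ∈ zpowers w) (hσ2 : σ ^ 2 = 1)
    (hne : ∃ c ∈ C, σ * c * σ⁻¹ ≠ c) :
    ∃ T : Subgroup Q, T ≤ C ∧ IsPGroup 2 T ∧ (∀ x ∈ T, w * x * w⁻¹ ∈ T ∧ w⁻¹ * x * w ∈ T) ∧
      ∃ t ∈ T, σ * t * σ⁻¹ = t * z := by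
  haveI : Fact (Nat.Prime 2) := ⟨Nat.prime_two⟩
  have hσ : σ ∈ normalizer (C : Set Q) := zpowers_le.mpr hw hσw
  have hσi : σ⁻¹ = σ := inv_eq_self_of_sq hσ2
  obtain ⟨g, hg, hgz⟩ := h.exists_sq hσ2 hσ hne
  set Y := C ⊔ zpowers w with hY
  have hwY : w ∈ Y := Subgroup.mem_sup_right (mem_zpowers w)
  have hσY : σ ∈ Y := Subgroup.mem_sup_right hσw
  have hdec : ∀ x ∈ Y, ∃ c ∈ C, ∃ i : ℤ, x = c * w ^ i := by
    intro x hx
    have hx' : x ∈ ((C ⊔ zpowers w : Subgroup Q) : Set Q) := hx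
    rw [Subgroup.coe_mul_of_right_le_normalizer_left C (zpowers w) (zpowers_le.mpr hw)] at hx'
    obtain ⟨c, hc, v, hv, rfl⟩ := hx'
    obtain ⟨i, rfl⟩ := mem_zpowers_iff.mp hv
    exact ⟨c, hc, i, rfl⟩
  have hwZ : IsPGroup 2 (zpowers (⟨w, hwY⟩ : Y)) := by
    obtain ⟨k, hk⟩ := hw2
    exact fun ⟨x, hx⟩ => ⟨k, Subtype.ext (by
      obtain ⟨i, rfl⟩ := mem_zpowers_iff.mp hx
      show ((⟨w, hwY⟩ : Y) ^ i) ^ 2 ^ k = 1
      rw [← zpow_natCast, ← zpow_mul, mul_comm, zpow_mul, zpow_natCast,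
        show (⟨w, hwY⟩ : Y) ^ 2 ^ k = 1 from Subtype.ext hk, one_zpow])⟩
  obtain ⟨P₀, hP₀⟩ := hwZ.exists_le_sylow
  set S : Subgroup Q := (P₀ : Subgroup Y).map Y.subtype with hS
  have hwS : w ∈ S := ⟨⟨w, hwY⟩, hP₀ (mem_zpowers _), rfl⟩
  set T := S ⊓ C with hT
  have hTp : IsPGroup 2 T := (P₀.isPGroup'.map Y.subtype).to_le inf_le_left
  have hTinv : ∀ x ∈ T, w * x * w⁻¹ ∈ T ∧ w⁻¹ * x * w ∈ T := by
    intro x hx
    refine ⟨⟨mul_mem (mul_mem hwS hx.1) (S.inv_mem hwS), (Subgroup.mem_normalizer_iff.mp hw x).mp hx.2⟩,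
      ⟨mul_mem (mul_mem (S.inv_mem hwS) hx.1) hwS, ?_⟩⟩
    have := (Subgroup.mem_normalizer_iff.mp (inv_mem hw) x).mp hx.2
    rwa [inv_inv] at this
  have hσS : σ ∈ S := zpowers_le.mpr hwS hσw
  refine ⟨T, inf_le_right, hTp, hTinv, ?_⟩
  by_contra hnone
  push Not at hnone
  -- otherwise `σ` centralizes `T`
  have hfixT : ∀ t ∈ T, σ * t * σ⁻¹ = t := by
    intro t ht
    by_contra hne'
    have hct : t⁻¹ * (σ * t * σ⁻¹) ∈ T :=
      mul_mem (T.inv_mem ht) ⟨mul_mem (mul_mem hσS ht.1) (S.inv_mem hσS),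
        (Subgroup.mem_normalizer_iff.mp hσ t).mp ht.2⟩
    set c := t⁻¹ * (σ * t * σ⁻¹) with hc
    have hcinv : σ * c * σ⁻¹ = c⁻¹ := by
      rw [hc, mul_inv_rev, inv_inv]
      simp only [hσi]
      rw [show σ * (t⁻¹ * (σ * t * σ)) * σ = σ * t⁻¹ * σ * t * σ ^ 2 by rw [pow_two]; group, hσ2, mul_one]
      simp only [mul_inv_rev, hσi]
      group
    have hc1 : c ≠ 1 := fun e => hne' (inv_mul_eq_one.mp e).symm
    obtain ⟨k, hk⟩ := hTp ⟨c, hct⟩
    have hk' : c ^ 2 ^ k = 1 := congrArg Subtype.val hk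
    obtain ⟨i, hi1, hi2⟩ := exists_involution_pow hk' hc1
    have hz := h.uniq _ (pow_mem hct.2 _) hi1 hi2
    cases i with
    | zero =>
      rw [pow_zero, pow_one] at hz
      refine hnone t ht ?_
      rw [← hz, hc, mul_inv_cancel_left]
    | succ i =>
      refine hnone (c ^ 2 ^ i) (pow_mem hct _) ?_
      rw [pow_succ, pow_mul] at hz
      rw [← conj_pow, hcinv, inv_pow, ← hz, inv_eq_iff_mul_eq_one, ← mul_assoc,
        ← pow_two, hz, ← h.sq]
      rw [← hz]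
      group
  have hzc : ∀ x ∈ Y, z * x = x * z := by
    intro x hx
    obtain ⟨c, hc, i, rfl⟩ := hdec x hx
    have h1 : Commute z w := (mul_inv_eq_iff_eq_mul.mp (h.conj_z hw)).symm
    exact (Commute.mul_right (h.z_comm hc) (h1.zpow_right i)).eq
  have hcen : ∀ x : Y, x ∈ (P₀ : Subgroup Y) → (x : Q) * σ = σ * x := by
    intro x hx
    obtain ⟨c, hc, i, hci⟩ := hdec x x.2
    have hxS : (x : Q) ∈ S := ⟨x, hx, rfl⟩
    have hcS : c ∈ S := by
      rw [show c = (x : Q) * (w ^ i)⁻¹ by rw [hci, mul_inv_cancel_right]]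
      exact mul_mem hxS (S.inv_mem (zpow_mem hwS i))
    have h1 : σ * c = c * σ := mul_inv_eq_iff_eq_mul.mp (hfixT c ⟨hcS, hc⟩)
    obtain ⟨j, rfl⟩ := mem_zpowers_iff.mp hσw
    rw [hci]
    exact (Commute.mul_left h1.symm ((Commute.refl w).zpow_zpow i j)).eq
  set ρ := σ * g⁻¹ * σ * g with hρ
  have hρC : ρ ∈ C := by
    have := (Subgroup.mem_normalizer_iff.mp hσ g⁻¹).mp (inv_mem hg)
    rw [hσi] at this
    exact mul_mem this hg
  set s : Y := ⟨σ, hσY⟩ with hs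
  set r : Y := ⟨ρ, Subgroup.mem_sup_left hρC⟩ with hr
  have hconj : ρ⁻¹ * σ * ρ = σ * z := by
    have h0 : σ * ρ * σ⁻¹ = ρ⁻¹ := by
      rw [hρ, mul_inv_rev, mul_inv_rev, mul_inv_rev, inv_inv]
      simp only [hσi]
      rw [show σ * (σ * g⁻¹ * σ * g) * σ = σ ^ 2 * (g⁻¹ * σ * g * σ) by rw [pow_two]; group,
        hσ2, one_mul]
      group
    rw [← h0, ← hgz, pow_two, inv_mul_cancel_right, mul_assoc]
  have hx : s ∈ centralizer ((P₀ : Subgroup Y) : Set Y) :=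
    Subgroup.mem_centralizer_iff.mpr fun x hx => Subtype.ext (hcen x hx)
  have hy : r⁻¹ * s * r ∈ centralizer ((P₀ : Subgroup Y) : Set Y) := by
    refine Subgroup.mem_centralizer_iff.mpr fun x hx => Subtype.ext ?_
    show (x : Q) * (ρ⁻¹ * σ * ρ) = (ρ⁻¹ * σ * ρ) * (x : Q)
    rw [hconj, ← mul_assoc, hcen x hx, mul_assoc, ← hzc x x.2, mul_assoc]
  obtain ⟨m, hm, hme⟩ := P₀.conj_eq_normalizer_conj_of_mem_centralizer s r hx hy
  obtain ⟨c, hc, i, hci⟩ := hdec m m.2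
  have hm' : (m : Q)⁻¹ * σ * (m : Q) = σ * z := by
    rw [← hconj]
    exact (congrArg Subtype.val hme).symm
  have hwσ : Commute (w ^ i) σ := by
    obtain ⟨j, rfl⟩ := mem_zpowers_iff.mp hσw
    exact (Commute.refl w).zpow_zpow i j
  have hwz : Commute (w ^ i) z :=
    ((show Commute z w from (mul_inv_eq_iff_eq_mul.mp (h.conj_z hw)).symm).zpow_right i).symm
  have hc' : σ * c * σ⁻¹ = c * z := by
    have h1 : c⁻¹ * σ * c = σ * z := by
      have h2 : (w ^ i)⁻¹ * (c⁻¹ * σ * c) * w ^ i = σ * z := by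
        rw [← hm', hci]; group
      calc c⁻¹ * σ * c = w ^ i * ((w ^ i)⁻¹ * (c⁻¹ * σ * c) * w ^ i) * (w ^ i)⁻¹ := by group
        _ = σ * z := by rw [h2, (hwσ.mul_right hwz).eq, mul_inv_cancel_right]
    have hzσ : z * σ = σ * z := hzc σ hσY
    have h3 : σ * c = c * σ * z := by
      rw [show σ * c = c * (c⁻¹ * σ * c) by group, h1]; group
    rw [h3, mul_assoc c, ← hzσ, ← mul_assoc, mul_inv_cancel_right]
  obtain ⟨e, he, k, hk⟩ := exists_two_part c
  have hce : σ * c ^ e * σ⁻¹ = c ^ e * z := by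
    rw [← conj_pow, hc', (show Commute c z from (h.z_comm hc).symm).mul_pow, pow_odd_of_sq h.sq he]
  -- `c ^ e` is a 2-element normalizing the Sylow subgroup
  set c' : Y := ⟨c, Subgroup.mem_sup_left hc⟩ with hc'def
  have hcN : c' ∈ normalizer ((P₀ : Subgroup Y) : Set Y) := by
    have e1 : c' = m * ((⟨w, hwY⟩ : Y) ^ i)⁻¹ := Subtype.ext (by
      show c = (m : Q) * (((⟨w, hwY⟩ : Y) ^ i : Y) : Q)⁻¹
      rw [Subgroup.coe_zpow, hci, mul_inv_cancel_right])
    rw [e1]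
    exact mul_mem hm (inv_mem (zpow_mem (Subgroup.le_normalizer (hP₀ (mem_zpowers _))) i))
  have hcS : c ^ e ∈ S := by
    have hZ : IsPGroup 2 (zpowers (c' ^ e)) := fun ⟨x, hx'⟩ => ⟨k, Subtype.ext (by
      obtain ⟨j, rfl⟩ := mem_zpowers_iff.mp hx'
      show ((c' ^ e) ^ j) ^ 2 ^ k = 1
      rw [← zpow_natCast, ← zpow_mul, mul_comm, zpow_mul, zpow_natCast,
        show (c' ^ e) ^ 2 ^ k = 1 from Subtype.ext hk, one_zpow])⟩
    have hp : IsPGroup 2 ((P₀ : Subgroup Y) ⊔ zpowers (c' ^ e) : Subgroup Y) :=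
      P₀.isPGroup'.to_sup_of_normal_left' hZ (zpowers_le.mpr (pow_mem hcN e))
    refine ⟨c' ^ e, ?_, rfl⟩
    exact (P₀.is_maximal' hp le_sup_left) ▸ Subgroup.mem_sup_right (mem_zpowers _)
  have := hfixT (c ^ e) ⟨hcS, pow_mem hc e⟩
  rw [hce, mul_eq_left] at this
  exact h.ne this

/-- The diagonal of `C` and its conjugate under an involution. -/
theorem diag_spec (h : Good n z C) {σ : Q} (hσ2 : σ ^ 2 = 1) (hσ : σ ∉ normalizer (C : Set Q)) :
    ∃ D : Subgroup Q, Cfsg.IsQuasisimple D ∧ 2 ∣ Nat.card D ∧ D ≤ centralizer ({σ} : Set Q) ∧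
      (D.subgroupOf (centralizer ({σ} : Set Q))).IsSubnormal ∧ D ≤ Cfsg.layer Q ∧
      n ≤ Nat.card (↥D ⧸ Subgroup.center D) ∧ (∀ c ∈ C, c * (σ * c * σ⁻¹) ∈ D) := by
  haveI : Fact (Nat.Prime 2) := ⟨Nat.prime_two⟩
  have hP : IsPermuted 2 σ C := ⟨h.comp, hσ2, hσ⟩
  set D := hP.diagHom.range with hD
  have hval : ∀ c : C, hP.diagHom c = (c : Q) * (σ * c * σ⁻¹) := fun c => by
    show orbitProd σ 2 (c : Q) = _
    simp [orbitProd]
  have hDC : D ≤ centralizer ({σ} : Set Q) := by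
    rintro _ ⟨l, rfl⟩
    exact Subgroup.mem_centralizer_singleton_iff.mpr (hP.diagHom_commute l).eq
  set C' := MulAut.conj σ • C with hC'
  have hC'c : Cfsg.IsComponent C' := isComponent_conj h.comp σ
  set F := C ⊔ C' with hF
  have hFE : F ≤ Cfsg.layer Q := sup_le (le_layer h.comp) (le_layer hC'c)
  have hDF : D ≤ F := by
    rintro _ ⟨l, rfl⟩
    rw [hval]
    exact mul_mem (Subgroup.mem_sup_left l.2)
      (Subgroup.mem_sup_right (Subgroup.smul_mem_pointwise_smul (l : Q) (MulAut.conj σ) C l.2))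
  refine ⟨D, hP.diag_isQuasisimple, ?_, hDC, ?_, hDF.trans hFE, ?_, fun c hc => ⟨⟨c, hc⟩, hval _⟩⟩
  · obtain ⟨x, hx, hxz⟩ := h.exists_four
    have hne : hP.diagHom ⟨x, hx⟩ ≠ 1 := by
      intro e
      have h1 : ∀ d ∈ C, x * d = d * x := fun d hd => by
        have := hP.diagHom_act ⟨x, hx⟩ hd
        rw [e, one_mul, inv_one, mul_one] at this
        exact (mul_inv_eq_iff_eq_mul.mp this.symm)
      rcases h.eq_one_or hx h1 with e1 | e1
      · exact h.ne (by rw [← hxz, e1, one_pow])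
      · exact h.ne (by rw [← hxz, e1, h.sq])
    have h4 : (hP.diagHom ⟨x, hx⟩) ^ 2 ^ 2 = 1 := by
      rw [← map_pow, show (⟨x, hx⟩ : C) ^ 2 ^ 2 = 1 from Subtype.ext (by
        show x ^ 2 ^ 2 = 1
        rw [pow_two 2, pow_mul, hxz, h.sq]), map_one]
    obtain ⟨i, hi1, hi2⟩ := exists_involution_pow h4 hne
    have := D.orderOf_dvd_natCard (pow_mem (⟨_, rfl⟩ : hP.diagHom ⟨x, hx⟩ ∈ D) (2 ^ i))
    rwa [orderOf_eq_prime hi1 hi2] at this
  · have hFN : F ≤ normalizer (C : Set Q) := hFE.trans h.layer_le_normalizer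
    set CF := F ⊓ centralizer ({σ} : Set Q) with hCF
    have h1 : (D.subgroupOf CF).IsSubnormal := by
      refine ((Subgroup.normal_subgroupOf_iff_le_normalizer (le_inf hDF hDC)).mpr ?_).isSubnormal
      intro f hf
      refine mem_normalizer_of_smul_eq_self (Subgroup.eq_of_le_of_card_ge ?_ ?_)
      · rintro _ ⟨_, ⟨l, rfl⟩, rfl⟩
        refine ⟨⟨f * l * f⁻¹, (Subgroup.mem_normalizer_iff.mp (hFN hf.1) _).mp l.2⟩, ?_⟩
        show orbitProd σ 2 (f * (l : Q) * f⁻¹) = f * orbitProd σ 2 (l : Q) * f⁻¹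
        exact (IsPermuted.orbitProd_conj (Subgroup.mem_centralizer_singleton_iff.mp hf.2) 2 _).symm
      · exact (Nat.card_congr (Subgroup.equivSMul (MulAut.conj f) D).toEquiv).le
    refine subnormal_subgroupOf_trans (le_inf hDF hDC) inf_le_right h1 ?_
    have h2 : (CF.subgroupOf (centralizer ({σ} : Set Q))) =
        F.subgroupOf (centralizer ({σ} : Set Q)) := by
      ext x
      exact ⟨fun hx => hx.1, fun hx => ⟨hx, x.2⟩⟩
    rw [h2]
    have hFn : (F.subgroupOf (Cfsg.layer Q)).Normal := by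
      refine (Subgroup.normal_subgroupOf_iff_le_normalizer hFE).mpr fun l hl => ?_
      refine mem_normalizer_of_smul_eq_self (Subgroup.eq_of_le_of_card_ge ?_ ?_)
      · rw [hF, Subgroup.smul_sup]
        rw [smul_eq_self_of_mem_normalizer (component_le_normalizer_layer_member h.comp hl),
          smul_eq_self_of_mem_normalizer (component_le_normalizer_layer_member hC'c hl)]
      · exact (Nat.card_congr (Subgroup.equivSMul (MulAut.conj l) F).toEquiv).le
    have hEn : (Cfsg.layer Q).Normal := layer_normal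
    have h3 := hFn.isSubnormal.trans' hEn.isSubnormal
    rw [Subgroup.map_subgroupOf_eq_of_le hFE] at h3
    exact h3.comap _
  · set χ := (QuotientGroup.mk' (Subgroup.center D)).comp hP.diagHom.rangeRestrict with hχ
    have hχs : Function.Surjective χ :=
      (QuotientGroup.mk'_surjective _).comp hP.diagHom.rangeRestrict_surjective
    have hker : χ.ker ≤ Subgroup.center C := by
      refine IsQuasisimple.le_center_of_ne_top h.comp.2 χ.normal_ker fun e => ?_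
      haveI := hP.diag_isQuasisimple.1
      haveI : Nontrivial D := IsQuasisimple.nontrivial hP.diag_isQuasisimple
      have htop : Subgroup.center D = ⊤ := eq_top_iff.mpr fun d _ => by
        obtain ⟨l, rfl⟩ := hP.diagHom.rangeRestrict_surjective d
        exact (QuotientGroup.eq_one_iff _).mp (e.ge (Subgroup.mem_top l) : l ∈ χ.ker)
      obtain ⟨d, hd⟩ := exists_ne (1 : D)
      refine hd (hom_trivial_of_perfect (MonoidHom.id D) (fun x y => ?_) d)
      exact (Subgroup.mem_center_iff.mp (htop.ge (Subgroup.mem_top y)) x)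
    rw [← h.inn, ← Subgroup.index_eq_card]
    exact Nat.le_of_dvd Nat.card_pos
      ((Subgroup.index_dvd_of_le hker).trans (by rw [Subgroup.index_ker, MonoidHom.range_eq_top.mpr hχs, Subgroup.card_top]))

end Good

end CfsgLib.Intrinsic
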