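import Cfsg.Agent.Lib.Intrinsic.Component

/-!
# Intrinsic 2-components and L-balance between two centralizers

`Intrinsic n b J`: `b` is the only involution of `J`, a 2-component of `C(b)`, with `Good` image modulo the core.
-/

set_option autoImplicit false
set_option linter.style.haveILetI false

namespace CfsgLib.Intrinsic

open Subgroup
open CfsgLib.Signalizer CfsgLib.Components

variable {G : Type*} [Group G]

/-- `C(b)` as a subgroup. -/
abbrev cent (b : G) : Subgroup G := centralizer ({b} : Set G)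

/-- The quotient map `C(b) → C(b) / O(C(b))`. -/
abbrev proj (b : G) : cent b →* cent b ⧸ Cfsg.pPrimeCore 2 (cent b) := modCore 2 (cent b)

/-- An element commuting with `b`, as an element of `C(b)`. -/
abbrev el {b x : G} (h : x * b = b * x) : cent b := ⟨x, Subgroup.mem_centralizer_singleton_iff.mpr h⟩

theorem comm_of_mem {b : G} (x : cent b) : (x : G) * b = b * x :=
  Subgroup.mem_centralizer_singleton_iff.mp x.2

/-- Conjugation between centralizers. -/
def conjCent {g X b : G} (h : g * X * g⁻¹ = b) : cent X ≃* cent b where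
  toFun m := el (x := g * m * g⁻¹) (by
    rw [← h]
    calc g * m * g⁻¹ * (g * X * g⁻¹) = g * ((m : G) * X) * g⁻¹ := by group
      _ = g * (X * m) * g⁻¹ := by rw [comm_of_mem m]
      _ = g * X * g⁻¹ * (g * m * g⁻¹) := by group)
  invFun m := el (x := g⁻¹ * m * g) (by
    have h' : X = g⁻¹ * b * g := by rw [← h]; group
    rw [h']
    calc g⁻¹ * m * g * (g⁻¹ * b * g) = g⁻¹ * ((m : G) * b) * g := by group
      _ = g⁻¹ * (b * m) * g := by rw [comm_of_mem m]
      _ = g⁻¹ * b * g * (g⁻¹ * m * g) := by group)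
  left_inv m := Subtype.ext (show g⁻¹ * (g * m * g⁻¹) * g = (m : G) by group)
  right_inv m := Subtype.ext (show g * (g⁻¹ * m * g) * g⁻¹ = (m : G) by group)
  map_mul' m m' := Subtype.ext (show g * (m * m') * g⁻¹ = g * m * g⁻¹ * (g * (m' : G) * g⁻¹) by group)

variable [Finite G]

theorem conjCent_mem_pLayer {g X b : G} (h : g * X * g⁻¹ = b) {m : cent X}
    (hm : m ∈ Cfsg.pLayer 2 (cent X)) : conjCent h m ∈ Cfsg.pLayer 2 (cent b) :=
  (pLayer_map_equiv (conjCent h)).le ⟨m, hm, rfl⟩

theorem proj_mem_layer {b : G} {x : cent b} (hx : x ∈ Cfsg.pLayer 2 (cent b)) :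
    proj b x ∈ Cfsg.layer (cent b ⧸ Cfsg.pPrimeCore 2 (cent b)) :=
  haveI : Fact (Nat.Prime 2) := ⟨Nat.prime_two⟩
  (pLayer_map (p := 2)).le ⟨x, hx, rfl⟩

/-- L-balance for commuting involutions: 2-components of `C(b) ∩ C(a)` lie in `L(C(a))`. -/
theorem balance {a b : G} (ha2 : a ^ 2 = 1) (hb2 : b ^ 2 = 1) (hab : a * b = b * a)
    {M : Subgroup (cent b)}
    (hM : Cfsg.IsPComponentOf 2 M (centralizer ({el hab} : Set (cent b)))) {m : cent b}
    (hm : m ∈ M) :
    ∃ h : (m : G) * a = a * m, el h ∈ Cfsg.pLayer 2 (cent a) := by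
  haveI : Fact (Nat.Prime 2) := ⟨Nat.prime_two⟩
  have hcomm : ∀ x ∈ centralizer ({el hab} : Set (cent b)), (x : G) * a = a * x := fun x hx =>
    congrArg Subtype.val (Subgroup.mem_centralizer_singleton_iff.mp hx)
  refine ⟨hcomm m (hM.1 hm), ?_⟩
  set D := cent a ⊓ cent b with hD
  set K' := M.map (cent b).subtype with hK'
  have hCD : (centralizer ({el hab} : Set (cent b))).map (cent b).subtype = D := by
    ext x
    constructor
    · rintro ⟨y, hy, rfl⟩
      exact ⟨Subgroup.mem_centralizer_singleton_iff.mpr (hcomm y hy), y.2⟩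
    · intro hx
      exact ⟨⟨x, hx.2⟩, Subgroup.mem_centralizer_singleton_iff.mpr
        (Subtype.ext (Subgroup.mem_centralizer_singleton_iff.mp hx.1)), rfl⟩
  have hne : K' ≠ ⊥ := fun e => PCompOf.ne_bot hM
    ((Subgroup.map_eq_bot_iff_of_injective M (cent b).subtype_injective).mp e)
  have hle : K' ≤ D := hCD ▸ Subgroup.map_mono hM.1
  have hsn : (K'.subgroupOf D).IsSubnormal := by
    have := subnormal_map_subgroupOf (cent b).subtype hM.1 (isPComponentOf_iff.mp hM).2.1
    rwa [hCD] at this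
  have h1 : Cfsg.IsPComponentOf 2 K' D := PCompOf.map hM _ hne hle hsn
  have h2 := PCompOf.subgroupOf h1 (Y := cent a) (hle.trans inf_le_left)
  have hba : b * a = a * b := hab.symm
  have hDa : D.subgroupOf (cent a) =
      centralizer ((zpowers (el hba) : Subgroup (cent a)) : Set (cent a)) := by
    ext x
    rw [Subgroup.mem_centralizer_iff, Subgroup.mem_subgroupOf]
    constructor
    · intro hx y hy
      obtain ⟨i, rfl⟩ := mem_zpowers_iff.mp hy
      have h3 : Commute (el hba) x :=
        Subtype.ext (Subgroup.mem_centralizer_singleton_iff.mp hx.2).symm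
      exact (h3.zpow_left i).eq
    · intro hx
      exact ⟨x.2, Subgroup.mem_centralizer_singleton_iff.mpr
        (congrArg Subtype.val (hx _ (mem_zpowers (el hba)))).symm⟩
  rw [hDa] at h2
  have hT : IsPGroup 2 (zpowers (el hba)) := fun ⟨x, hx⟩ => ⟨1, Subtype.ext (by
    obtain ⟨i, rfl⟩ := mem_zpowers_iff.mp hx
    show (el hba ^ i) ^ 2 ^ 1 = 1
    rw [pow_one, ← zpow_natCast, ← zpow_mul, mul_comm, zpow_mul, zpow_natCast,
      show (el hba : cent a) ^ 2 = 1 from Subtype.ext hb2, one_zpow])⟩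
  refine pLayer_two_centralizer_le hT ?_
  obtain ⟨hle', hc⟩ := h2
  refine ⟨⟨el (hcomm m (hM.1 hm)), hle' ⟨m, hm, rfl⟩⟩, pComponent_le_pLayer hc ?_, rfl⟩
  exact ⟨m, hm, rfl⟩

/-- `b` is the only involution of `J`, a 2-component of `C(b)` with image `Good`. -/
structure Intrinsic (n : ℕ) (b : G) (J : Subgroup G) : Prop where
  two : orderOf b = 2
  mem : b ∈ J
  uniq : ∀ t ∈ J, orderOf t = 2 → t = b
  le : J ≤ cent b
  comp : Cfsg.IsPComponent 2 (J.subgroupOf (cent b))
  good : Good n (proj b (el (rfl : b * b = b * b))) ((J.subgroupOf (cent b)).map (proj b))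

namespace Intrinsic

variable {n : ℕ} {b : G} {J : Subgroup G}

omit [Finite G] in
theorem sq (h : Intrinsic n b J) : b ^ 2 = 1 := h.two ▸ pow_orderOf_eq_one b

omit [Finite G] in
theorem ne_one (h : Intrinsic n b J) : b ≠ 1 := fun e => by
  have := h.two
  rw [e, orderOf_one] at this
  exact absurd this (by norm_num)

omit [Finite G] in
theorem eq_one_or (h : Intrinsic n b J) {x : G} (hx : x ∈ J) (hx2 : x ^ 2 = 1) : x = 1 ∨ x = b := by
  by_cases h1 : x = 1
  · exact Or.inl h1
  · exact Or.inr (h.uniq x hx (orderOf_eq_prime (hp := ⟨Nat.prime_two⟩) hx2 h1))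

omit [Finite G] in
theorem conj_eq (h : Intrinsic n b J) {x : G} (hx : x ∈ normalizer (J : Set G)) : x * b = b * x := by
  have h1 : x * b * x⁻¹ = b := by
    refine h.uniq _ ((Subgroup.mem_normalizer_iff.mp hx b).mp h.mem) ?_
    rw [Signalizer.orderOf_conj, h.two]
  exact mul_inv_eq_iff_eq_mul.mp h1

/-- The image of `b` is central in `C(b) / O`. -/
theorem z_central (_h : Intrinsic n b J) (q : cent b ⧸ Cfsg.pPrimeCore 2 (cent b)) :
    proj b (el (rfl : b * b = b * b)) * q = q * proj b (el (rfl : b * b = b * b)) := by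
  obtain ⟨x, rfl⟩ := modCore_surjective q
  rw [← map_mul, ← map_mul]
  exact congrArg _ (Subtype.ext (comm_of_mem x).symm)

/-- 2-elements with image in the component lie in the 2-component. -/
theorem mem_of_proj (h : Intrinsic n b J) {x : cent b} (h2 : ∃ k : ℕ, x ^ 2 ^ k = 1)
    (hx : proj b x ∈ (J.subgroupOf (cent b)).map (proj b)) : (x : G) ∈ J := by
  haveI : Fact (Nat.Prime 2) := ⟨Nat.prime_two⟩
  obtain ⟨k, hk⟩ := h2
  exact (pComponent_eq_pGen h.comp).ge (mem_pGen (Subgroup.mem_comap.mpr hx) hk)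

/-- Normalizing `J` can be read in the quotient. -/
theorem mem_normalizer_iff (h : Intrinsic n b J) (x : cent b) :
    (x : G) ∈ normalizer (J : Set G) ↔
      proj b x ∈ normalizer (((J.subgroupOf (cent b)).map (proj b) : Subgroup _) : Set _) := by
  haveI : Fact (Nat.Prime 2) := ⟨Nat.prime_two⟩
  constructor
  · intro hx
    refine Subgroup.le_normalizer_map (proj b) ⟨x, ?_, rfl⟩
    exact Subgroup.mem_normalizer_iff.mpr fun y => Subgroup.mem_normalizer_iff.mp hx (y : G)
  · intro hx
    have h1 := Subgroup.mem_normalizer_iff.mp (mem_normalizer_pComponent h.comp hx)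
    refine Subgroup.mem_normalizer_iff.mpr fun y => ⟨fun hy => h1 ⟨y, h.le hy⟩ |>.mp hy, fun hy => ?_⟩
    have hy' : y ∈ cent b := by
      have := mul_mem (mul_mem ((cent b).inv_mem x.2) (h.le hy)) x.2
      simpa [mul_assoc] using this
    exact (h1 ⟨y, hy'⟩).mpr hy

/-- The 2-layer of `C(b)` normalizes `J`. -/
theorem mem_normalizer_of_pLayer (h : Intrinsic n b J) {x : cent b}
    (hx : x ∈ Cfsg.pLayer 2 (cent b)) : (x : G) ∈ normalizer (J : Set G) := by
  haveI : Fact (Nat.Prime 2) := ⟨Nat.prime_two⟩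
  exact (h.mem_normalizer_iff x).mpr (Subgroup.le_normalizer_map (proj b)
    ⟨x, pLayer_le_normalizer h.comp hx, rfl⟩)

end Intrinsic

/-- Components conjugated by elements outside the normalizer commute with the component. -/
theorem comm_conj {Q : Type*} [Group Q] [Finite Q] {C : Subgroup Q} (hC : Cfsg.IsComponent C)
    {g : Q} (hg : g ∉ normalizer (C : Set Q)) {c d : Q} (hc : c ∈ C) (hd : d ∈ C) :
    g * c * g⁻¹ * d = d * (g * c * g⁻¹) := by
  open scoped Pointwise in
  have hne : MulAut.conj g • C ≠ C := fun e => hg (mem_normalizer_of_smul_eq_self e)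
  open scoped Pointwise in
  have h1 := Subgroup.commutator_eq_bot_iff_le_centralizer.mp
    (components_commute (isComponent_conj hC g) hC hne) (Subgroup.smul_mem_pointwise_smul c (MulAut.conj g) C hc)
  exact (Subgroup.mem_centralizer_iff.mp h1 d hd).symm

end CfsgLib.Intrinsic
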